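import Groth.Agent.Lib.LocAcyc24.TorsionConst
import Groth.Agent.Lib.EtAcyc24.IntegralBase
import Mathlib.Algebra.Homology.ShortComplex.Ab

/-!
# Dévissage of constant coefficients of prime power order
-/

set_option autoImplicit false
set_option linter.style.haveILetI false
set_option backward.isDefEq.respectTransparency.types false

universe u

open CategoryTheory CategoryTheory.Limits AlgebraicGeometry Opposite CategoryTheory.Abelian

namespace Groth.Agent.LocAcycBC6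

open Groth.Agent.EtStalk Groth.Agent.EtAcyc24

theorem preservesFiniteLimits_cs (Z : Scheme.{u}) : PreservesFiniteLimits (LocAcyc24.cs Z) := by
  haveI : PreservesFiniteLimits (Functor.const Z.Etaleᵒᵖ : AddCommGrpCat.{u + 1} ⥤ _) := inferInstance
  show PreservesFiniteLimits (Functor.const Z.Etaleᵒᵖ ⋙ presheafToSheaf Z.smallEtaleTopology AddCommGrpCat.{u + 1})
  exact comp_preservesFiniteLimits _ _

theorem preservesFiniteColimits_cs (Z : Scheme.{u}) : PreservesFiniteColimits (LocAcyc24.cs Z) := by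
  haveI : PreservesColimitsOfSize.{0, 0} (LocAcyc24.cs Z) := (EtCore.constAdj Z).leftAdjoint_preservesColimits
  infer_instance

/-- Cohomology of constant coefficients along an extension. -/
theorem subsingleton_H_of_ext (Z : Scheme.{u}) (q : ℕ) {S : ShortComplex AddCommGrpCat.{u + 1}} (hS : S.ShortExact)
    (h₁ : Subsingleton (EtCoh.H Z ((LocAcyc24.cs Z).obj S.X₁) q))
    (h₃ : Subsingleton (EtCoh.H Z ((LocAcyc24.cs Z).obj S.X₃) q)) :
    Subsingleton (EtCoh.H Z ((LocAcyc24.cs Z).obj S.X₂) q) := by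
  haveI := preservesFiniteLimits_cs Z
  haveI := preservesFiniteColimits_cs Z
  have hT := hS.map_of_exact (LocAcyc24.cs Z)
  refine subsingleton_of_forall_eq 0 fun x => ?_
  obtain ⟨a, ha⟩ := Ext.covariant_sequence_exact₂ _ hT x (h₃.elim _ _)
  rw [← ha, show a = 0 from h₁.elim _ _]
  exact Ext.zero_comp ..

variable (ℓ ν : ℕ)

/-- Multiplication by `ℓ` from `ZMod (ℓ ^ ν)`. -/
noncomputable def mulHom : ZMod (ℓ ^ ν) →+ ZMod (ℓ ^ (ν + 1)) :=
  ZMod.lift (ℓ ^ ν) ⟨zmultiplesHom (ZMod (ℓ ^ (ν + 1))) (ℓ : ZMod (ℓ ^ (ν + 1))), by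
    show ((ℓ ^ ν : ℕ) : ℤ) • (ℓ : ZMod (ℓ ^ (ν + 1))) = 0
    rw [natCast_zsmul, nsmul_eq_mul, ← Nat.cast_mul, ← pow_succ, ZMod.natCast_self]⟩

theorem mulHom_intCast (k : ℤ) : mulHom ℓ ν (k : ZMod (ℓ ^ ν)) = ((k * ℓ : ℤ) : ZMod (ℓ ^ (ν + 1))) := by
  rw [mulHom, ZMod.lift_coe]
  show k • (ℓ : ZMod (ℓ ^ (ν + 1))) = _
  rw [zsmul_eq_mul, Int.cast_mul, Int.cast_natCast]

/-- Constant coefficients of prime power order. -/
theorem subsingleton_H_const_pow (Z : Scheme.{u}) (hℓ : ℓ ≠ 0) (q : ℕ)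
    (h : Subsingleton (EtCoh.H Z (EtCoh.const Z (ZMod ℓ)) q)) :
    ∀ ν : ℕ, Subsingleton (EtCoh.H Z (EtCoh.const Z (ZMod (ℓ ^ ν))) q) := by
  intro ν
  induction ν with
  | zero =>
    refine subsingleton_of_forall_eq 0 fun x => ?_
    have h1 : 𝟙 (EtCoh.const Z (ZMod (ℓ ^ 0))) = 0 := (one_nsmul _).symm.trans (nsmul_id_const Z 1)
    rw [← Ext.comp_mk₀_id x, h1, Ext.mk₀_zero, Ext.comp_zero]
  | succ ν ih =>
    let A (n : ℕ) := AddCommGrpCat.of (ULift.{u + 1} (ZMod n))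
    let i : A (ℓ ^ ν) ⟶ A (ℓ ^ (ν + 1)) := AddCommGrpCat.ofHom
      (AddEquiv.ulift.symm.toAddMonoidHom.comp ((mulHom ℓ ν).comp AddEquiv.ulift.toAddMonoidHom))
    let π : ZMod (ℓ ^ (ν + 1)) →+* ZMod ℓ := ZMod.castHom (dvd_pow_self ℓ ν.succ_ne_zero) (ZMod ℓ)
    let r : A (ℓ ^ (ν + 1)) ⟶ A ℓ := AddCommGrpCat.ofHom
      (AddEquiv.ulift.symm.toAddMonoidHom.comp (π.toAddMonoidHom.comp AddEquiv.ulift.toAddMonoidHom))
    have hinj : ∀ z : ZMod (ℓ ^ ν), mulHom ℓ ν z = 0 → z = 0 := fun z hz => by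
      obtain ⟨k, rfl⟩ := ZMod.intCast_surjective z
      rw [mulHom_intCast, ZMod.intCast_zmod_eq_zero_iff_dvd] at hz
      rw [ZMod.intCast_zmod_eq_zero_iff_dvd]
      rw [pow_succ, Nat.cast_mul] at hz
      exact (mul_dvd_mul_iff_right (by exact_mod_cast hℓ)).1 hz
    have hex : ∀ z : ZMod (ℓ ^ (ν + 1)), π z = 0 → ∃ y, mulHom ℓ ν y = z := fun z hz => by
      obtain ⟨k, rfl⟩ := ZMod.intCast_surjective z
      rw [map_intCast, ZMod.intCast_zmod_eq_zero_iff_dvd] at hz
      obtain ⟨d, rfl⟩ := hz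
      exact ⟨(d : ZMod (ℓ ^ ν)), by rw [mulHom_intCast, mul_comm]⟩
    have hw : i ≫ r = 0 := by
      ext z
      obtain ⟨k, hk⟩ := ZMod.intCast_surjective z.down
      show π (mulHom ℓ ν z.down) = 0
      rw [← hk, mulHom_intCast, map_intCast, Int.cast_mul, Int.cast_natCast, ZMod.natCast_self, mul_zero]
    let S := ShortComplex.mk i r hw
    have hS : S.ShortExact :=
      { exact := by
          rw [ShortComplex.ab_exact_iff]
          intro z hz
          obtain ⟨y, hy⟩ := hex z.down (congrArg ULift.down hz)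
          exact ⟨⟨y⟩, congrArg ULift.up hy⟩
        mono_f := by
          rw [AddCommGrpCat.mono_iff_injective, injective_iff_map_eq_zero]
          intro z hz
          exact congrArg ULift.up (hinj z.down (congrArg ULift.down hz))
        epi_g := by
          rw [AddCommGrpCat.epi_iff_surjective]
          intro z
          obtain ⟨y, hy⟩ := ZMod.ringHom_surjective π z.down
          exact ⟨⟨y⟩, congrArg ULift.up hy⟩ }
    exact subsingleton_H_of_ext Z q hS ih h

end Groth.Agent.LocAcycBC6
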