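import Groth.Agent.Lib.LocAcyc24.SHPoint
import Groth.Agent.Lib.Hens.Henselization
import Groth.Agent.Lib.AlgSpEt14.HensPt
import Groth.Agent.Lib.GeomFact27.ShLocal
import Groth.Prelude.Def_EtAcyc

/-!
# Strict henselizations at the points of a strict localisation
-/

set_option autoImplicit false
set_option linter.style.haveILetI false
set_option linter.unusedSectionVars false
set_option backward.isDefEq.respectTransparency.types false

universe u

open CategoryTheory AlgebraicGeometry IsLocalRing

namespace Groth.Agent.LocAcycBC6

open Groth.Agent.Hens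

section Alg

variable {A S A' S' T : Type u} [CommRing A] [IsLocalRing A] [CommRing S] [IsLocalRing S] [Algebra A S]
  [IsLocalHom (algebraMap A S)] [Hensel.IsStrictHenselization A S] [CommRing A'] [IsLocalRing A']
  [CommRing S'] [IsLocalRing S'] [Algebra S S'] (M : Submonoid S) [IsLocalization M S']
  [CommRing T] [IsLocalRing T] [Algebra S' T] [IsLocalHom (algebraMap S' T)] [Hensel.IsStrictHenselization S' T]
  (ι : A →+* A') (f₁ : A' →+* S') [IsLocalHom f₁] [Algebra A' T] [IsLocalHom (algebraMap A' T)]

set_option maxHeartbeats 800000 in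
include M in
/-- A strict henselization of a localisation of a strict henselization is one of the base localisation. -/
theorem isStrictHenselization_of_localization (hι : f₁.comp ι = (algebraMap S S').comp (algebraMap A S))
    (hepi : ∀ (B : Type u) [CommRing B] (a b : A' →+* B), a.comp ι = b.comp ι → a = b)
    (hT : algebraMap A' T = (algebraMap S' T).comp f₁) : Hensel.IsStrictHenselization A' T := by
  obtain ⟨e⟩ := exists_strictHenselization_equiv A S
  have hsep := Hensel.IsStrictHenselization.isSepClosure (R := S') (S := T)
  let π : S →+* ResidueField T := (residue T).comp ((algebraMap S' T).comp (algebraMap S S'))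
  refine ⟨Hensel.IsStrictHenselization.henselian (R := S'), ⟨hsep.sep_closed, ?_⟩, ?_⟩
  · letI : Algebra (ResidueField A') (ResidueField S') := (ResidueField.map f₁).toAlgebra
    haveI : IsScalarTower (ResidueField A') (ResidueField S') (ResidueField T) :=
      IsScalarTower.of_algebraMap_eq fun z => by
        obtain ⟨a, rfl⟩ := residue_surjective z
        exact congrArg (residue T) (RingHom.congr_fun hT a)
    letI : Algebra A (ResidueField A') := ((residue A').comp ι).toAlgebra
    letI : Algebra A (ResidueField T) := ((algebraMap (ResidueField A') (ResidueField T)).comp ((residue A').comp ι)).toAlgebra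
    haveI : IsScalarTower A (ResidueField A') (ResidueField T) := IsScalarTower.of_algebraMap_eq' rfl
    let πA : Hsh A →ₐ[A] ResidueField T :=
      { π.comp e.toRingEquiv.toRingHom with
        commutes' := fun a => by
          show π (e (algebraMap A (Hsh A) a)) = residue T (algebraMap A' T (ι a))
          rw [AlgEquiv.commutes, hT]
          exact congrArg (fun z => residue T (algebraMap S' T z)) (RingHom.congr_fun hι a).symm }
    have hS : ∀ s : S, IsSeparable (ResidueField A') (π s) := fun s => by
      obtain ⟨i, y, hy⟩ := Hs.exists_of (e.symm s)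
      haveI : Algebra.FormallyUnramified A i.G :=
        have : Algebra.FormallyEtale A i.G := inferInstance
        inferInstance
      have h := HensPt14.isSeparable_apply (R := A) (κ := ResidueField A') (G := i.G) (F := ResidueField T)
        (πA.comp (Hs.of i)) y
      have h1 : (πA.comp (Hs.of i)) y = π s := by
        show π (e (Hs.of i y)) = π s
        rw [hy, e.apply_symm_apply]
      rwa [h1] at h
    haveI : Algebra.IsSeparable (ResidueField A') (ResidueField S') := ⟨fun z => by
      obtain ⟨z, rfl⟩ := residue_surjective z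
      obtain ⟨s, m, rfl⟩ := IsLocalization.exists_mk'_eq M z
      refine IsSeparable.of_algHom (IsScalarTower.toAlgHom (ResidueField A') (ResidueField S') (ResidueField T)) ?_
      show IsSeparable (ResidueField A') (residue T (algebraMap S' T (IsLocalization.mk' S' s m)))
      have hm : π m ≠ 0 := ((((IsLocalization.map_units S' m).map (algebraMap S' T)).map (residue T))).ne_zero
      have h : residue T (algebraMap S' T (IsLocalization.mk' S' s m)) = π s / π m := by
        rw [eq_div_iff hm]
        show _ * residue T (algebraMap S' T (algebraMap S S' m)) = _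
        rw [← map_mul, ← map_mul, IsLocalization.mk'_spec]
        rfl
      rw [h, div_eq_mul_inv]
      exact Field.isSeparable_mul (hS s) (Field.isSeparable_inv (hS m))⟩
    haveI := hsep.separable
    exact Algebra.IsSeparable.trans (ResidueField A') (ResidueField S') (ResidueField T)
  · intro H _ _ f _ τ hτ
    letI : Algebra A H := (f.comp ι).toAlgebra
    have hτ' : ∀ a : A', τ (residue T (algebraMap A' T a)) = residue H (f a) :=
      fun a => RingHom.congr_fun hτ (residue A' a)
    let ρ : Hsh A →ₐ[A] ResidueField H :=
      { (τ.comp π).comp e.toRingEquiv.toRingHom with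
        commutes' := fun a => by
          show τ (π (e (algebraMap A (Hsh A) a))) = residue H (f (ι a))
          rw [AlgEquiv.commutes, ← hτ', hT]
          exact congrArg (fun z => τ (residue T (algebraMap S' T z))) (RingHom.congr_fun hι a).symm }
    obtain ⟨g0, hg0⟩ := GeomFact27.exists_lift_of_algHom H ρ
    let gS : S →+* H := g0.toRingHom.comp e.symm.toRingEquiv.toRingHom
    have hgS : ∀ s, residue H (gS s) = τ (π s) := fun s => by
      show residue H (g0 (e.symm s)) = _
      rw [hg0]
      show τ (π (e (e.symm s))) = _
      rw [e.apply_symm_apply]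
    have hgA : ∀ a, gS (algebraMap A S a) = f (ι a) := fun a => by
      show g0 (e.symm (algebraMap A S a)) = _
      rw [AlgEquiv.commutes, AlgHom.commutes]
      rfl
    have hu : ∀ m : M, IsUnit (gS m) := fun m => by
      rw [← residue_ne_zero_iff_isUnit, hgS]
      exact (((((IsLocalization.map_units S' m).map (algebraMap S' T)).map (residue T))).map τ).ne_zero
    let l : S' →+* H := IsLocalization.lift hu
    have hlS : ∀ s, l (algebraMap S S' s) = gS s := fun s => IsLocalization.lift_eq hu s
    have hl : ∀ z, residue H (l z) = τ (residue T (algebraMap S' T z)) := fun z => by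
      refine RingHom.congr_fun (IsLocalization.ringHom_ext M (j := (residue H).comp l)
        (k := (τ.comp (residue T)).comp (algebraMap S' T)) (RingHom.ext fun s => ?_)) z
      show residue H (l (algebraMap S S' s)) = τ (residue T (algebraMap S' T (algebraMap S S' s)))
      rw [hlS, hgS]
      rfl
    haveI : IsLocalHom l := ⟨fun z hz => by
      rw [← residue_ne_zero_iff_isUnit, hl] at hz
      refine IsLocalHom.map_nonunit (f := algebraMap S' T) z ((residue_ne_zero_iff_isUnit (R := T) _).1 fun h => hz ?_)
      rw [h, map_zero]⟩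
    obtain ⟨g, ⟨hg, hgr⟩, hgu⟩ := Hensel.IsStrictHenselization.universal (R := S') (S := T) H l τ (by
      refine Ideal.Quotient.ringHom_ext (RingHom.ext fun z => ?_)
      exact (hl z).symm)
    have hlf : l.comp f₁ = f := hepi H _ _ (RingHom.ext fun a => by
      show l (f₁ (ι a)) = f (ι a)
      rw [show f₁ (ι a) = algebraMap S S' (algebraMap A S a) from RingHom.congr_fun hι a, hlS, hgA])
    refine ⟨g, ⟨by rw [hT, ← RingHom.comp_assoc, hg, hlf], hgr⟩, fun g' hg' => hgu g' ⟨?_, hg'.2⟩⟩
    refine IsLocalization.ringHom_ext M (RingHom.ext fun s => ?_)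
    show g' (algebraMap S' T (algebraMap S S' s)) = l (algebraMap S S' s)
    rw [hlS]
    let g₂ : Hsh A →ₐ[A] H :=
      { (g'.comp ((algebraMap S' T).comp (algebraMap S S'))).comp e.toRingEquiv.toRingHom with
        commutes' := fun a => by
          show g' (algebraMap S' T (algebraMap S S' (e (algebraMap A (Hsh A) a)))) = f (ι a)
          rw [AlgEquiv.commutes, ← RingHom.congr_fun hg'.1 (ι a)]
          show _ = g' (algebraMap A' T (ι a))
          rw [hT]
          exact congrArg (fun z => g' (algebraMap S' T z)) (RingHom.congr_fun hι a).symm }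
    obtain ⟨i, y, hy⟩ := Hs.exists_of (e.symm s)
    have key : g₂.comp (Hs.of i) = g0.comp (Hs.of i) := i.hom_ext fun z => by
      rw [← residue_eq_zero_iff, map_sub, sub_eq_zero]
      show residue H (g₂ _) = residue H (g0 _)
      rw [hg0]
      exact hg'.2 _
    have h2 := DFunLike.congr_fun key y
    show _ = g0 (e.symm s)
    rw [← hy]
    refine Eq.trans ?_ h2
    show g' (algebraMap S' T (algebraMap S S' s)) = g' (algebraMap S' T (algebraMap S S' (e (Hs.of i y))))
    rw [hy, e.apply_symm_apply]

end Alg

/-- Strict henselizations at the points of a strict localisation are strict henselizations of the scheme. -/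
theorem exists_algebra_of_specOf {X : Scheme.{u}} (x : X) {R : Type u} [CommRing R] [IsLocalRing R]
    [Algebra (X.presheaf.stalk x) R] [IsLocalHom (algebraMap (X.presheaf.stalk x) R)]
    [Hensel.IsStrictHenselization (X.presheaf.stalk x) R] (x' : Spec (CommRingCat.of R)) (x₀ : X)
    (hx : (Hens2.specOf X x R).base x' = x₀) (T : Type u) [CommRing T] [IsLocalRing T]
    [Algebra ((Spec (CommRingCat.of R)).presheaf.stalk x') T]
    [IsLocalHom (algebraMap ((Spec (CommRingCat.of R)).presheaf.stalk x') T)]
    [Hensel.IsStrictHenselization ((Spec (CommRingCat.of R)).presheaf.stalk x') T] :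
    ∃ (_ : Algebra (X.presheaf.stalk x₀) T) (_ : IsLocalHom (algebraMap (X.presheaf.stalk x₀) T)),
      Hensel.IsStrictHenselization (X.presheaf.stalk x₀) T ∧
      Hens2.specOf X x₀ T = Hens2.specOf (Spec (CommRingCat.of R)) x' T ≫ Hens2.specOf X x R := by
  subst hx
  let σ := Hens2.specOf X x R
  let S' := (Spec (CommRingCat.of R)).presheaf.stalk x'
  let f₁ : X.presheaf.stalk (σ.base x') →+* S' := (σ.stalkMap x').hom
  letI : Algebra (X.presheaf.stalk (σ.base x')) T := ((algebraMap S' T).comp f₁).toAlgebra
  haveI : IsLocalHom (algebraMap (X.presheaf.stalk (σ.base x')) T) := RingHom.isLocalHom_comp _ _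
  have hsp : σ.base x' ⤳ x := by
    have h := (PrimeSpectrum.le_iff_specializes (x' : PrimeSpectrum R) (closedPoint R)).1
      (IsLocalRing.le_maximalIdeal x'.isPrime.ne_top)
    have h' := h.map σ.base.hom.continuous
    rwa [show σ.base (closedPoint R) = x from LocAcyc24.specOf_closedPoint] at h'
  have hspec : Hens2.specOf X (σ.base x') T = Hens2.specOf (Spec (CommRingCat.of R)) x' T ≫ σ := by
    show Spec.map (CommRingCat.ofHom ((algebraMap S' T).comp f₁)) ≫ _ = (_ ≫ _) ≫ σ
    rw [CommRingCat.ofHom_comp, Spec.map_comp, Category.assoc, Category.assoc]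
    congr 1
    rw [show CommRingCat.ofHom f₁ = σ.stalkMap x' from CommRingCat.ofHom_hom _,
      Scheme.SpecMap_stalkMap_fromSpecStalk]
  refine ⟨inferInstance, inferInstance, ?_, hspec⟩
  letI : Algebra R S' := (StructureSheaf.toStalk R x').hom.toAlgebra
  haveI : IsLocalization x'.asIdeal.primeCompl S' := StructureSheaf.IsLocalization.to_stalk R x'
  obtain ⟨ι, k⟩ : ∃ ι : X.presheaf.stalk x →+* X.presheaf.stalk (σ.base x'),
      Spec.map (CommRingCat.ofHom ι) ≫ X.fromSpecStalk x = X.fromSpecStalk (σ.base x') :=
    ⟨(X.presheaf.stalkSpecializes hsp).hom, Scheme.SpecMap_stalkSpecializes_fromSpecStalk hsp⟩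
  refine isStrictHenselization_of_localization (S := R) (S' := S') x'.asIdeal.primeCompl
    ι f₁ (LocAcyc24.ringHom_ext_specOf ?_) (fun B _ a b hab => ?_) rfl
  · rw [CommRingCat.ofHom_comp (g := f₁), Spec.map_comp, Category.assoc, k,
      show CommRingCat.ofHom f₁ = σ.stalkMap x' from CommRingCat.ofHom_hom _, Scheme.SpecMap_stalkMap_fromSpecStalk,
      Spec.fromSpecStalk_eq', CommRingCat.ofHom_comp, Spec.map_comp, Category.assoc]
    rfl
  · refine LocAcyc24.ringHom_ext_specOf ?_
    have e : ∀ c : X.presheaf.stalk (σ.base x') →+* B,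
        Spec.map (CommRingCat.ofHom c) ≫ X.fromSpecStalk (σ.base x') =
          Spec.map (CommRingCat.ofHom (c.comp ι)) ≫ X.fromSpecStalk x := fun c => by
      rw [← k, ← Category.assoc, ← Spec.map_comp]
      rfl
    exact (e a).trans ((congrArg (fun q => Spec.map (CommRingCat.ofHom q) ≫ X.fromSpecStalk x) hab).trans (e b).symm)

/-- Properties of the maps of strict localisations pass to those maps. -/
theorem onStrictLocalizations_specMap {X Y : Scheme.{u}} (g : X ⟶ Y)
    {P : ∀ ⦃X' Y' : Scheme.{u}⦄, (X' ⟶ Y') → Prop} (H : EtAcyc.OnStrictLocalizations g P) (x : X)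
    (RY RX : Type u) [CommRing RY] [CommRing RX] [IsLocalRing RY] [IsLocalRing RX]
    [Algebra (Y.presheaf.stalk (g.base x)) RY] [IsLocalHom (algebraMap (Y.presheaf.stalk (g.base x)) RY)]
    [Hensel.IsStrictHenselization (Y.presheaf.stalk (g.base x)) RY]
    [Algebra (X.presheaf.stalk x) RX] [IsLocalHom (algebraMap (X.presheaf.stalk x) RX)]
    [Hensel.IsStrictHenselization (X.presheaf.stalk x) RX]
    [Algebra RY RX] [IsLocalHom (algebraMap RY RX)]
    (hc : (algebraMap RY RX).comp (algebraMap (Y.presheaf.stalk (g.base x)) RY) =
      (algebraMap (X.presheaf.stalk x) RX).comp (g.stalkMap x).hom) :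
    EtAcyc.OnStrictLocalizations (Spec.map (CommRingCat.ofHom (algebraMap RY RX))) P := by
  intro x' RY' RX' _ _ _ _ _ _ _ _ _ _ _ _ hc'
  let sψ := Spec.map (CommRingCat.ofHom (algebraMap RY RX))
  let σx := Hens2.specOf X x RX
  let σy := Hens2.specOf Y (g.base x) RY
  have e : sψ ≫ σy = σx ≫ g := (LocAcyc24.specOf_compat g (algebraMap RY RX)).1 hc
  have e' := (LocAcyc24.specOf_compat sψ (algebraMap RY' RX')).1 hc'
  obtain ⟨aX, lX, sX, cX⟩ := exists_algebra_of_specOf x x' (σx.base x') rfl RX'
  obtain ⟨aY, lY, sY, cY⟩ := exists_algebra_of_specOf (g.base x) (sψ.base x') (g.base (σx.base x'))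
    (congrArg (fun m => m.base x') e) RY'
  letI := aX
  haveI := lX
  haveI := sX
  letI := aY
  haveI := lY
  haveI := sY
  refine H (σx.base x') RY' RX' ((LocAcyc24.specOf_compat g (algebraMap RY' RX')).2 ?_)
  rw [cY, cX, ← Category.assoc, e']
  simp only [Category.assoc]
  exact congrArg _ (congrArg _ e)

end Groth.Agent.LocAcycBC6
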