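import Groth.Agent.Lib.LocAcycBC6.Affine
import Groth.Agent.Lib.LocAcycBC6.ConstDev
import Groth.Agent.Lib.LocAcycBC6.SLPoint

/-!
# Acyclicity from geometric fibres under local acyclicity
-/

set_option autoImplicit false
set_option linter.style.haveILetI false
set_option linter.unusedSectionVars false
set_option backward.isDefEq.respectTransparency.types false

universe u

open CategoryTheory CategoryTheory.Limits AlgebraicGeometry Opposite CategoryTheory.Abelian

namespace Groth.Agent.LocAcycBC6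

open Groth.Agent.EtStalk Groth.Agent.EtAcyc24

variable {X Y : Scheme.{u}}

/-- The criterion on affine quasi-finite schemes over the target. -/
theorem isAcyclicN_of_test_affine (g : X ⟶ Y) [QuasiCompact g] [QuasiSeparated g] (L : Set ℕ) (n : ℕ)
    (hsurj : Function.Surjective g.base)
    (hs : ∀ (Y' : Scheme.{u}) (i : Y' ⟶ Y), IsAffine Y' → LocallyQuasiFinite i → LocallyOfFiniteType i →
      ∀ ℓ : ℕ, ℓ.Prime → ℓ ∈ L → ∀ ν : ℕ, 1 ≤ ν → ∀ q : ℕ, q ≤ n →
        Function.Surjective (EtCore.Hpull (pullback.snd g i) (EtCoh.const Y' (ZMod (ℓ ^ ν))) q)) :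
    EtAcyc.IsAcyclicN g L n := by
  refine isAcyclicN_of_basis g (Embed24.isEtBasis_affine Y) L n fun W hW => ?_
  haveI : IsAffine W.left := hW
  haveI : Etale W.hom := W.prop
  haveI : LocallyQuasiFinite W.hom := Groth.Agent.FiniteSplit.locallyQuasiFinite_of_etale W.hom
  haveI : QuasiCompact (EtAcyc.prj g W) := MorphismProperty.pullback_fst _ _ inferInstance
  haveI : QuasiSeparated (EtAcyc.prj g W) := MorphismProperty.pullback_fst _ _ inferInstance
  haveI : AlgebraicGeometry.Surjective g := ⟨hsurj⟩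
  haveI : AlgebraicGeometry.Surjective (EtAcyc.prj g W) := MorphismProperty.pullback_fst _ _ inferInstance
  refine compN_of_test (EtAcyc.prj g W) L n ?_ (EtAcyc.prj g W).surjective
  intro Z f _ _ ℓ hℓ hℓL ν hν q hq
  haveI : IsAffine Z := isAffine_of_isAffineHom f
  have hp := (IsPullback.of_hasPullback (EtAcyc.prj g W) f).paste_horiz (IsPullback.of_hasPullback W.hom g).flip
  haveI : IsIso hp.isoPullback.hom := inferInstance
  have h := hs Z (f ≫ W.hom) inferInstance inferInstance inferInstance ℓ hℓ hℓL ν hν q hq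
  refine surjective_Hpull_congr hp.isoPullback_hom_snd _ _ ?_
  rw [Hpull_comp_eq]
  exact (bijective_comp_iso _ q).2.comp ((LocAcyc24.bijective_Hpull_of_isIso _ _ q).2.comp h)

/-- A point of a geometric fibre gives a point over the base point. -/
theorem mem_range_of_fibre (g : X ⟶ Y) (y : Y) (Ω : Type u) [Field Ω] [Algebra (Y.residueField y) Ω]
    (x : ↥(pullback g (EtAcyc.geomPt Y y Ω))) : y ∈ Set.range g.base := by
  refine ⟨(pullback.fst g (EtAcyc.geomPt Y y Ω)).base x, ?_⟩
  have h := congrArg (fun k : pullback g (EtAcyc.geomPt Y y Ω) ⟶ Y => k.base x)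
    (pullback.condition (f := g) (g := EtAcyc.geomPt Y y Ω))
  refine h.trans ?_
  show (Y.fromSpecResidueField y).base _ = y
  rw [Scheme.fromSpecResidueField_apply]

/-- An algebraic geometric point of a quasi-finite scheme over the target is one of the target. -/
theorem exists_geomPt_comp_lqf {Z : Scheme.{u}} (i : Z ⟶ Y) [LocallyQuasiFinite i] (v : Z) (Ω : Type u) [Field Ω]
    [Algebra (Z.residueField v) Ω] [Algebra.IsAlgebraic (Z.residueField v) Ω] :
    ∃ (_ : Algebra (Y.residueField (i.base v)) Ω) (_ : Algebra.IsAlgebraic (Y.residueField (i.base v)) Ω),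
      EtAcyc.geomPt Y (i.base v) Ω = EtAcyc.geomPt Z v Ω ≫ i := by
  letI : Algebra (Y.residueField (i.base v)) Ω :=
    ((algebraMap (Z.residueField v) Ω).comp (i.residueFieldMap v).hom).toAlgebra
  letI : Algebra (Y.residueField (i.base v)) (Z.residueField v) := (i.residueFieldMap v).hom.toAlgebra
  haveI : IsScalarTower (Y.residueField (i.base v)) (Z.residueField v) Ω := IsScalarTower.of_algebraMap_eq' rfl
  haveI : LocallyQuasiFinite (Spec.map (i.residueFieldMap v) ≫ Y.fromSpecResidueField (i.base v)) := by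
    rw [Scheme.Hom.SpecMap_residueFieldMap_fromSpecResidueField]
    infer_instance
  haveI : LocallyQuasiFinite (Spec.map (i.residueFieldMap v)) :=
    LocallyQuasiFinite.of_comp (Spec.map (i.residueFieldMap v)) (Y.fromSpecResidueField (i.base v))
  haveI : IsFinite (Spec.map (i.residueFieldMap v)) := IsFinite.of_locallyQuasiFinite _
  haveI : Module.Finite (Y.residueField (i.base v)) (Z.residueField v) :=
    (IsFinite.SpecMap_iff (i.residueFieldMap v)).1 ‹IsFinite (Spec.map (i.residueFieldMap v))›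
  refine ⟨inferInstance, Algebra.IsAlgebraic.trans _ (Z.residueField v) Ω, ?_⟩
  show Spec.map (i.residueFieldMap v ≫ CommRingCat.ofHom (algebraMap (Z.residueField v) Ω)) ≫ _ = _
  rw [Spec.map_comp, Category.assoc, Scheme.Hom.SpecMap_residueFieldMap_fromSpecResidueField]
  exact (Category.assoc _ _ _).symm

set_option maxHeartbeats 1000000 in
/-- The test surjectivity on affine quasi-finite schemes. -/
theorem surjective_test (g : X ⟶ Y) [QuasiCompact g] [QuasiSeparated g] {L : Set ℕ} {n : ℕ}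
    (hloc : ∀ k, k < n → EtAcyc.IsLocAcyclicN g L k)
    (hS : EtAcyc.OnStrictLocalizations g fun _ _ h => Function.Surjective h.base)
    (hfib : EtAcyc.GeomFibresAcyclicN L n g)
    {Z : Scheme.{u}} [IsAffine Z] (i : Z ⟶ Y) [LocallyQuasiFinite i] [LocallyOfFiniteType i]
    {ℓ : ℕ} (hℓ : ℓ.Prime) (hℓL : ℓ ∈ L) (ν : ℕ) (q : ℕ) (hq : q ≤ n)
    (hprev : ∀ k, k < q → EtAcyc.IsAcyclicN g L k) :
    Function.Surjective (EtCore.Hpull (pullback.snd g i) (EtCoh.const Z (ZMod (ℓ ^ ν))) q) := by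
  haveI : IsSeparated (i ≫ terminal.from Y) := inferInstance
  haveI : IsSeparated i := IsSeparated.of_comp i (terminal.from Y)
  let g' := pullback.snd g i
  haveI : QuasiCompact g' := MorphismProperty.pullback_snd _ _ ‹_›
  haveI : QuasiSeparated g' := MorphismProperty.pullback_snd _ _ ‹_›
  have hN : EtAcyc.PrimesIn L (ℓ ^ ν) :=
    ⟨pow_pos hℓ.pos _, fun p hp hd => ((Nat.prime_dvd_prime_iff_eq hp hℓ).1 (hp.dvd_of_dvd_pow hd)).symm ▸ hℓL⟩
  have hfib' : ∀ (v : Z) (Ω : Type u) [Field Ω] [IsSepClosed Ω] [Algebra (Z.residueField v) Ω]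
      [Algebra.IsAlgebraic (Z.residueField v) Ω],
      ∃ P : Scheme.{u}, EtAcyc.IsAcyclicSchemeN L n P ∧ Nonempty (pullback g' (EtAcyc.geomPt Z v Ω) ≅ P) := by
    intro v Ω _ _ _ _
    obtain ⟨a, ha, e⟩ := exists_geomPt_comp_lqf i v Ω
    letI := a
    haveI := ha
    exact ⟨_, hfib (i.base v) Ω, ⟨pullbackLeftPullbackSndIso g i (EtAcyc.geomPt Z v Ω) ≪≫ pullback.congrHom rfl e.symm⟩⟩
  rcases q with _ | k
  · refine surjective_Hpull_affine_zero g' (surjLoc_baseChange hS i) (fun v => ?_) (ℓ ^ ν) fun v => ?_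
    · obtain ⟨P, ⟨⟨x⟩, -, -⟩, ⟨e⟩⟩ := hfib' v (AlgebraicClosure (Z.residueField v))
      exact mem_range_of_fibre g' v (AlgebraicClosure (Z.residueField v)) (e.inv x)
    · obtain ⟨P, ⟨-, hP, -⟩, ⟨e⟩⟩ := hfib' v (AlgebraicClosure (Z.residueField v))
      haveI := hP
      exact Function.Surjective.connectedSpace (Scheme.homeoOfIso e.symm).surjective (Scheme.homeoOfIso e.symm).continuous
  · intro ξ
    refine mem_range_affine g' (locBC_baseChange (hloc k (by omega)) i) (compN_snd g L k (hprev k (Nat.lt_succ_self k)) Z i)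
      (isLTorsion_of_nsmul L hN (nsmul_id_const Z (ℓ ^ ν))) ξ fun v Ω _ _ _ _ => ?_
    obtain ⟨P, hP, ⟨e⟩⟩ := hfib' v Ω
    let f := pullback.fst g' (EtAcyc.geomPt Z v Ω)
    have h1 : Subsingleton (EtCoh.H P (EtCoh.const P (ZMod (ℓ ^ ν))) (k + 1)) :=
      subsingleton_H_const_pow ℓ P hℓ.ne_zero (k + 1) (hP.2.2 ℓ hℓ hℓL (k + 1) k.succ_pos hq) ν
    obtain ⟨t⟩ := LocAcyc24.nonempty_H_const_addEquiv e.hom (ZMod (ℓ ^ ν)) (k + 1)
    have h2 : Subsingleton (EtCoh.H _ (EtCoh.const (pullback g' (EtAcyc.geomPt Z v Ω)) (ZMod (ℓ ^ ν))) (k + 1)) :=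
      t.symm.toEquiv.subsingleton
    refine FieldH25.eq_zero_of_comp_iso _ ((EtLim24.pullT f g' (f ≫ g') rfl).symm.app (EtCoh.const Z (ZMod (ℓ ^ ν))) ≪≫
      EtCore.pullConst (f ≫ g') (ZMod (ℓ ^ ν))) ?_
    exact h2.elim _ _

/-- Acyclicity from geometric fibres and local acyclicity. -/
theorem isAcyclicN_of_fibres (g : X ⟶ Y) [QuasiCompact g] [QuasiSeparated g] {L : Set ℕ} {n : ℕ}
    (hloc : ∀ k, k < n → EtAcyc.IsLocAcyclicN g L k)
    (hS : EtAcyc.OnStrictLocalizations g fun _ _ h => Function.Surjective h.base) (hfib : EtAcyc.GeomFibresAcyclicN L n g) :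
    ∀ m : ℕ, m ≤ n → EtAcyc.IsAcyclicN g L m := by
  intro m
  induction m using Nat.strong_induction_on with
  | _ m ih =>
    intro hm
    refine isAcyclicN_of_test_affine g L m (fun y => ?_) fun Z i hZ hi hi' ℓ hℓ hℓL ν hν q hq =>
      surjective_test g hloc hS hfib i hℓ hℓL ν q (hq.trans hm) fun k hk => ih k (hk.trans_le hq) (le_trans (by omega) hm)
    have h := (hfib y (SeparableClosure (Y.residueField y))).1
    exact mem_range_of_fibre g y (SeparableClosure (Y.residueField y)) (Classical.choice h)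

/-- Acyclicity up to a degree gives acyclicity in lower degrees. -/
theorem compN_mono {X Y : Scheme.{u}} {g : X ⟶ Y} {L : Set ℕ} {n k : ℕ} (h : EtAcyc.CompN g L n) (hk : k ≤ n) :
    EtAcyc.CompN g L k := by
  intro F hF _
  refine ⟨fun q hq => (h F hF).1 q (hq.trans hk), ?_⟩
  rcases hk.lt_or_eq with hlt | rfl
  · exact ((h F hF).1 (k + 1) hlt).1
  · exact (h F hF).2

/-- Local acyclicity up to a degree gives local acyclicity in lower degrees. -/
theorem isLocAcyclicN_mono {X Y : Scheme.{u}} {g : X ⟶ Y} {L : Set ℕ} {n k : ℕ} (h : EtAcyc.IsLocAcyclicN g L n)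
    (hk : k ≤ n) : EtAcyc.IsLocAcyclicN g L k := by
  intro x RY RX _ _ _ _ _ _ _ _ _ _ _ _ hc V
  exact compN_mono (h x RY RX hc V) hk

/-- Nonempty geometric fibres make the maps of strict localisations surjective. -/
theorem surjective_of_geomFibres {g : X ⟶ Y} {L : Set ℕ} {n : ℕ}
    (h : EtAcyc.OnStrictLocalizations g fun _ _ f => EtAcyc.GeomFibresAcyclicN L n f) :
    EtAcyc.OnStrictLocalizations g fun _ _ f => Function.Surjective f.base := by
  intro x RY RX _ _ _ _ _ _ _ _ _ _ _ _ hc v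
  exact mem_range_of_fibre _ v (SeparableClosure ((Spec (CommRingCat.of RY)).residueField v))
    (Classical.choice (h x RY RX hc v (SeparableClosure _)).1)

/-- Local acyclicity gives acyclic geometric fibres of the maps of strict localisations. -/
theorem geomFibres_of_locAcyclic {g : X ⟶ Y} {L : Set ℕ} (hL : ∃ ℓ ∈ L, ℓ.Prime) {n : ℕ}
    (h : EtAcyc.IsLocAcyclicN g L n) :
    EtAcyc.OnStrictLocalizations g fun _ _ f => EtAcyc.GeomFibresAcyclicN L n f := by
  intro x RY RX _ _ _ _ _ _ _ _ _ _ _ _ hc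
  exact EtAcyc24.geomFibresAcyclicN _ L hL n (h x RY RX hc)

/-- Acyclic schemes up to a degree are acyclic up to lower degrees. -/
theorem geomFibresAcyclicN_mono {X Y : Scheme.{u}} {f : X ⟶ Y} {L : Set ℕ} {n k : ℕ}
    (h : EtAcyc.GeomFibresAcyclicN L n f) (hk : k ≤ n) : EtAcyc.GeomFibresAcyclicN L k f := by
  intro y Ω _ _ _ _
  obtain ⟨h1, h2, h3⟩ := h y Ω
  exact ⟨h1, h2, fun ℓ hℓ hL q hq hq' => h3 ℓ hℓ hL q hq (hq'.trans hk)⟩

set_option maxHeartbeats 400000 in
/-- Acyclic geometric fibres of the maps of strict localisations give local acyclicity. -/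
theorem isLocAcyclicN_of_geomFibres {L : Set ℕ} (n : ℕ) {X Y : Scheme.{u}} (g : X ⟶ Y)
    (h : EtAcyc.OnStrictLocalizations g fun _ _ f => EtAcyc.GeomFibresAcyclicN L n f) :
    EtAcyc.IsLocAcyclicN g L n := by
  induction n using Nat.strong_induction_on generalizing X Y with
  | _ n ih =>
    intro x RY RX _ _ _ _ _ _ _ _ _ _ _ _ hc
    refine isAcyclicN_of_fibres _ (fun k hk => ih k hk _ ?_) ?_ (h x RY RX hc) n le_rfl
    · refine onStrictLocalizations_specMap g (fun x' RY' RX' _ _ _ _ _ _ _ _ _ _ _ _ hc' => ?_) x RY RX hc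
      exact geomFibresAcyclicN_mono (h x' RY' RX' hc') hk.le
    · exact onStrictLocalizations_specMap g (surjective_of_geomFibres h) x RY RX hc

end Groth.Agent.LocAcycBC6
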