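import Groth.Agent.Lib.LocAcycBC6.QFPoint
import Groth.Agent.Lib.EtAcyc24.BCDescent
import Groth.Agent.Lib.EtLim24.Base
import Mathlib.Topology.Spectral.ConstructibleTopology

/-!
# Classes vanishing on geometric fibres vanish over quasi-finite covers
-/

set_option autoImplicit false
set_option linter.style.haveILetI false
set_option linter.unusedSectionVars false
set_option backward.isDefEq.respectTransparency.types false

universe u

open CategoryTheory CategoryTheory.Limits AlgebraicGeometry Opposite CategoryTheory.Abelian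

namespace Groth.Agent.LocAcycBC6

open Topology Groth.Agent.EtStalk Groth.Agent.EtLim24 Groth.Agent.EtAcyc24

section Stages

variable {X Y P : Scheme.{u}} (g : X ⟶ Y) {σ : P ⟶ Y} (S : QFSys σ)

/-- The system of base changes. -/
noncomputable def fibSys : S.ιᵒᵖ ⥤ Scheme.{u} where
  obj i := pullback g (S.b i)
  map {i j} f := pullback.lift (pullback.fst g (S.b i)) (pullback.snd g (S.b i) ≫ S.T.map f)
    (by rw [Category.assoc, S.hb f]; exact pullback.condition)
  map_id i := by
    apply pullback.hom_ext
    · simp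
    · rw [pullback.lift_snd, CategoryTheory.Functor.map_id]
      simp
  map_comp f f' := by
    apply pullback.hom_ext
    · refine (pullback.lift_fst _ _ _).trans (((Category.assoc _ _ _).trans
        ((congrArg (fun q => _ ≫ q) (pullback.lift_fst _ _ _)).trans (pullback.lift_fst _ _ _))).symm)
    · refine (pullback.lift_snd _ _ _).trans ?_
      rw [S.T.map_comp]
      exact ((Category.assoc _ _ _).trans ((congrArg (fun q => _ ≫ q) (pullback.lift_snd _ _ _)).trans
        (((Category.assoc _ _ _).symm.trans (congrArg (fun q => q ≫ S.T.map f') (pullback.lift_snd _ _ _))).trans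
          (Category.assoc _ _ _)))).symm

/-- The projection from the base change to a stage. -/
noncomputable def fibProj (i : S.ιᵒᵖ) : pullback g σ ⟶ pullback g (S.b i) :=
  pullback.lift (pullback.fst g σ) (pullback.snd g σ ≫ S.π.app i)
    (by rw [Category.assoc, S.hπ i]; exact pullback.condition)

lemma fibProj_map {i j : S.ιᵒᵖ} (f : i ⟶ j) : fibProj g S i ≫ (fibSys g S).map f = fibProj g S j := by
  apply pullback.hom_ext
  · exact ((Category.assoc _ _ _).trans ((congrArg (fun q => _ ≫ q) (pullback.lift_fst _ _ _)).trans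
      (pullback.lift_fst _ _ _))).trans (pullback.lift_fst _ _ _).symm
  · exact ((Category.assoc _ _ _).trans ((congrArg (fun q => _ ≫ q) (pullback.lift_snd _ _ _)).trans
      (((Category.assoc _ _ _).symm.trans (congrArg (fun q => q ≫ S.T.map f) (pullback.lift_snd _ _ _))).trans
        ((Category.assoc _ _ _).trans (congrArg (fun q => pullback.snd g σ ≫ q) (Cone.w (Cone.mk P S.π) f)))))).trans
      (pullback.lift_snd _ _ _).symm

/-- The cone of base changes. -/
noncomputable def fibCone : Cone (fibSys g S) :=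
  Cone.mk (pullback g σ)
    { app := fibProj g S
      naturality := fun _ _ f => (Category.id_comp _).trans (fibProj_map g S f).symm }

/-- The base change is the limit. -/
noncomputable def isLimitFibCone : IsLimit (fibCone g S) := by
  let i₀ : S.ιᵒᵖ := op (Classical.arbitrary S.ι)
  let sT (s : Cone (fibSys g S)) : Cone S.T := Cone.mk s.pt
    { app := fun i => s.π.app i ≫ pullback.snd g (S.b i)
      naturality := fun i j f => by
        refine (Category.id_comp _).trans ?_
        refine (congrArg (fun q => q ≫ pullback.snd g (S.b j)) (s.w f).symm).trans ?_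
        exact ((Category.assoc _ _ _).trans (congrArg (fun q => s.π.app i ≫ q) (pullback.lift_snd _ _ _))).trans
          (Category.assoc _ _ _).symm }
  have hX : ∀ (s : Cone (fibSys g S)) (i : S.ιᵒᵖ),
      s.π.app i ≫ pullback.fst g (S.b i) = s.π.app i₀ ≫ pullback.fst g (S.b i₀) := by
    intro s i
    have hw : ∀ {k l : S.ιᵒᵖ} (f : k ⟶ l),
        s.π.app k ≫ pullback.fst g (S.b k) = s.π.app l ≫ pullback.fst g (S.b l) := by
      intro k l f
      rw [← s.w f, Category.assoc]
      exact congrArg (fun q => s.π.app k ≫ q) (pullback.lift_fst _ _ _).symm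
    obtain ⟨k, h₁, h₂⟩ := directed_of (α := S.ι) (· ≤ ·) i.unop i₀.unop
    exact (hw (homOfLE h₁).op).symm.trans (hw (homOfLE h₂).op)
  exact
    { lift := fun s => pullback.lift (s.π.app i₀ ≫ pullback.fst g (S.b i₀)) (S.isLimit.lift (sT s)) (by
        have h2 : S.isLimit.lift (sT s) ≫ S.π.app i₀ = s.π.app i₀ ≫ pullback.snd g (S.b i₀) :=
          S.isLimit.fac (sT s) i₀
        have h3 : S.isLimit.lift (sT s) ≫ σ = S.isLimit.lift (sT s) ≫ (S.π.app i₀ ≫ S.b i₀) :=
          congrArg (fun q => S.isLimit.lift (sT s) ≫ q) (S.hπ i₀).symm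
        refine Eq.trans ?_ h3.symm
        exact (((Category.assoc _ _ _).trans (congrArg (fun q => s.π.app i₀ ≫ q) pullback.condition)).trans
          (Category.assoc _ _ _).symm).trans ((congrArg (fun q => q ≫ S.b i₀) h2.symm).trans
            (Category.assoc _ _ _)))
      fac := fun s i => by
        apply pullback.hom_ext
        · refine (Category.assoc _ _ _).trans ?_
          exact ((congrArg (fun q => _ ≫ q) (pullback.lift_fst _ _ _)).trans (pullback.lift_fst _ _ _)).trans
            (hX s i).symm
        · refine (Category.assoc _ _ _).trans ?_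
          exact ((congrArg (fun q => _ ≫ q) (pullback.lift_snd _ _ _)).trans
            ((Category.assoc _ _ _).symm.trans (congrArg (fun q => q ≫ S.π.app i) (pullback.lift_snd _ _ _)))).trans
            (S.isLimit.fac (sT s) i)
      uniq := fun s m hm => by
        apply pullback.hom_ext
        · rw [pullback.lift_fst, ← hm i₀, Category.assoc]
          exact congrArg (fun q => m ≫ q) (pullback.lift_fst _ _ _).symm
        · rw [pullback.lift_snd]
          refine S.isLimit.uniq (sT s) _ fun i => ?_
          show (m ≫ pullback.snd g σ) ≫ S.π.app i = s.π.app i ≫ pullback.snd g (S.b i)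
          rw [← hm i, Category.assoc, Category.assoc]
          exact congrArg (fun q => m ≫ q) (pullback.lift_snd _ _ _).symm }

lemma isAffineHom_map {i j : S.ιᵒᵖ} (f : i ⟶ j) : IsAffineHom (S.T.map f) := inferInstance

lemma isAffineHom_fibSys {i j : S.ιᵒᵖ} (f : i ⟶ j) : IsAffineHom ((fibSys g S).map f) := by
  let v := S.T.map f
  haveI : IsAffineHom v := isAffineHom_map S f
  have sq : IsPullback ((fibSys g S).map f) (pullback.snd g (S.b i)) (pullback.snd g (S.b j)) v :=
    IsPullback.of_right (by
      show IsPullback (pullback.lift (pullback.fst g (S.b i)) (pullback.snd g (S.b i) ≫ S.T.map f) _ ≫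
        pullback.fst g (S.b j)) (pullback.snd g (S.b i)) g (v ≫ S.b j)
      rw [pullback.lift_fst, S.hb f]
      exact IsPullback.of_hasPullback g (S.b i)) (pullback.lift_snd _ _ _)
      (IsPullback.of_hasPullback g (S.b j))
  exact MorphismProperty.of_isPullback sq.flip ‹IsAffineHom v›

lemma compactSpace_T (i : S.ιᵒᵖ) : CompactSpace ↥(S.T.obj i) := inferInstance

lemma compactSpace_fibSys [QuasiCompact g] (i : S.ιᵒᵖ) : CompactSpace ↥((fibSys g S).obj i) :=
  haveI hq : QuasiCompact (pullback.snd g (S.b i)) := MorphismProperty.pullback_snd _ _ ‹_›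
  @QuasiCompact.compactSpace_of_compactSpace _ _ (pullback.snd g (S.b i)) hq (compactSpace_T S i)

lemma quasiSeparatedSpace_fibSys [QuasiSeparated g] (i : S.ιᵒᵖ) : QuasiSeparatedSpace ↥((fibSys g S).obj i) :=
  haveI hq : QuasiSeparated (pullback.snd g (S.b i)) := MorphismProperty.pullback_snd _ _ ‹_›
  @quasiSeparatedSpace_of_quasiSeparated _ _ (pullback.snd g (S.b i)) inferInstance hq

end Stages

section Fibre

variable {X Y : Scheme.{u}} (g : X ⟶ Y) [QuasiCompact g] [QuasiSeparated g]

/-- A class vanishing on a geometric fibre vanishes over a quasi-finite neighbourhood of it. -/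
theorem exists_stage_Hpull_eq_zero {P : Scheme.{u}} {σ : P ⟶ Y} (S : QFSys σ) (G : EtCoh.Ab X) (n : ℕ)
    (ξ : EtCoh.H X G n) (h : EtCore.Hpull (pullback.fst g σ) G n ξ = 0) :
    ∃ i : S.ιᵒᵖ, EtCore.Hpull (pullback.fst g (S.b i)) G n ξ = 0 := by
  haveI : ∀ i : S.ι, CompactSpace ↥((fibSys g S).obj (op i)) := fun i => compactSpace_fibSys g S _
  haveI : ∀ i : S.ι, QuasiSeparatedSpace ↥((fibSys g S).obj (op i)) := fun i => quasiSeparatedSpace_fibSys g S _
  let b : ∀ i : S.ι, (fibSys g S).obj (op i) ⟶ X := fun i => pullback.fst g (S.b (op i))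
  have hb : ∀ ⦃i j : S.ι⦄ (h : i ≤ j), uM (fibSys g S) h ≫ b i = b j := fun i j h => pullback.lift_fst _ _ _
  have hb' : ∀ i : S.ι, pr (fibSys g S) (fibCone g S) i ≫ b i = pullback.fst g σ := fun i => pullback.lift_fst _ _ _
  let i₀ : S.ι := Classical.arbitrary S.ι
  obtain ⟨j, hij, hj⟩ := (limit_base b hb (pullback.fst g σ) hb' G (fun _ _ f => isAffineHom_fibSys g S f)
    (isLimitFibCone g S) n).2 i₀ (EtCore.Hpull (b i₀) G n ξ) ((HpullVia_Hpull _ _ _ _ G n ξ).trans h)
  exact ⟨op j, (HpullVia_Hpull _ _ _ (hb hij) G n ξ).symm.trans hj⟩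

omit [QuasiCompact g] [QuasiSeparated g] in
/-- Constructible sets are clopen for the constructible topology. -/
lemma isOpen_constructible {Z : Type*} [TopologicalSpace Z] [CompactSpace Z] [QuasiSeparatedSpace Z] {s : Set Z}
    (hs : Topology.IsConstructible s) :
    IsOpen[constructibleTopology Z] s ∧ IsOpen[constructibleTopology Z] sᶜ := by
  induction hs using Topology.IsConstructible.empty_union_induction with
  | open_retrocompact U hUo hUc =>
    exact ⟨hUc.isCompact.isOpen_constructibleTopology_of_isOpen hUo,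
      IsCompact.isOpen_constructibleTopology_of_isClosed (by rw [compl_compl]; exact hUc.isCompact) hUo.isClosed_compl⟩
  | union s _ t _ hs ht =>
    refine ⟨@IsOpen.union _ _ _ (constructibleTopology Z) hs.1 ht.1, ?_⟩
    rw [Set.compl_union]
    exact TopologicalSpace.GenerateOpen.inter _ _ hs.2 ht.2
  | compl s _ hs => exact ⟨hs.2, (compl_compl s).symm ▸ hs.1⟩

omit [QuasiCompact g] [QuasiSeparated g] in
/-- Finitely many constructible sets cover. -/
lemma exists_finset_of_constructible (V : Scheme.{u}) [IsAffine V] (C : V → Set V)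
    (hC : ∀ v, Topology.IsConstructible (C v)) (hv : ∀ v, v ∈ C v) : ∃ t : Finset V, ∀ v, ∃ w ∈ t, v ∈ C w := by
  let e : WithConstructibleTopology V → V := fun z => WithTopology.ofTopology z
  obtain ⟨t, ht⟩ := (isCompact_univ (X := WithConstructibleTopology V)).elim_finite_subcover
    (fun v => e ⁻¹' C v) (fun v => WithConstructibleTopology.isOpen_iff.2 (isOpen_constructible (hC v)).1)
    (fun z _ => Set.mem_iUnion.2 ⟨e z, hv _⟩)
  refine ⟨t, fun v => ?_⟩
  obtain ⟨w, hw, hwv⟩ := Set.mem_iUnion₂.1 (ht (Set.mem_univ (WithTopology.toTopology _ v)))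
  exact ⟨w, hw, hwv⟩

/-- An algebraic geometric point lies over its point. -/
lemma geomPt_apply {V : Scheme.{u}} (v : V) (Ω : Type u) [Field Ω] [Algebra (V.residueField v) Ω]
    (q : Spec (CommRingCat.of Ω)) : (EtAcyc.geomPt V v Ω).base q = v :=
  Scheme.fromSpecResidueField_apply v ((Spec.map (CommRingCat.ofHom (algebraMap (V.residueField v) Ω))).base q)

/-- Over an affine open, classes vanishing on the geometric fibres, one for each point, vanishes on finitely many quasi-finite
schemes covering it. -/
theorem exists_cover_Hpull_eq_zero' (V : Scheme.{u}) [IsAffine V] (j : V ⟶ Y) [IsOpenImmersion j]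
    (G : EtCoh.Ab X) (n : ℕ) (ξ : V → EtCoh.H X G n)
    (h : ∀ v : V, EtCore.Hpull (pullback.fst g (EtAcyc.geomPt V v (AlgebraicClosure (V.residueField v)) ≫ j)) G n (ξ v) = 0) :
    ∃ (t : Finset V) (T : t → Scheme.{u}) (p : ∀ w, T w ⟶ V),
      (∀ w, IsAffine (T w)) ∧ (∀ w, LocallyQuasiFinite (p w)) ∧ (∀ w, LocallyOfFinitePresentation (p w)) ∧
      (∀ v : V, ∃ w, v ∈ Set.range (p w).base) ∧
      ∀ w : t, EtCore.Hpull (pullback.fst g (p w ≫ j)) G n (ξ w) = 0 := by
  classical
  have key : ∀ v : V, ∃ (T : Scheme.{u}) (p : T ⟶ V), IsAffine T ∧ LocallyQuasiFinite p ∧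
      LocallyOfFinitePresentation p ∧ v ∈ Set.range p.base ∧
      EtCore.Hpull (pullback.fst g (p ≫ j)) G n (ξ v) = 0 := by
    intro v
    let Ω := AlgebraicClosure (V.residueField v)
    obtain ⟨S⟩ := nonempty_qfSys V v Ω
    let S' : QFSys (EtAcyc.geomPt V v Ω ≫ j) :=
      { ι := S.ι, T := S.T, isAffine := S.isAffine, π := S.π, isLimit := S.isLimit, b := fun i => S.b i ≫ j
        hb := fun a c f => by rw [← Category.assoc, S.hb f]
        hπ := fun i => by rw [← Category.assoc, S.hπ i]
        lqf := fun i => inferInstance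
        lfp := fun i => inferInstance }
    obtain ⟨i, hi⟩ := exists_stage_Hpull_eq_zero g S' G n (ξ v) (h v)
    refine ⟨S.T.obj i, S.b i, inferInstance, inferInstance, inferInstance, ⟨(S.π.app i).base (default : Spec (CommRingCat.of Ω)), ?_⟩, hi⟩
    have e := congrArg (fun q : Spec (CommRingCat.of Ω) ⟶ V => q.base (default : Spec (CommRingCat.of Ω))) (S.hπ i)
    exact e.trans (geomPt_apply v Ω _)
  choose T p hT hlqf hlfp hmem hz using key
  have hC : ∀ v, IsConstructible (Set.range (p v).base) := fun v => by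
    haveI := hT v
    haveI := hlfp v
    rw [← Set.image_univ]
    exact (p v).isConstructible_image IsConstructible.univ
  obtain ⟨t, ht⟩ := exists_finset_of_constructible V (fun v => Set.range (p v).base) hC hmem
  exact ⟨t, fun w => T w, fun w => p w, fun w => hT w, fun w => hlqf w, fun w => hlfp w,
    fun v => let ⟨w, hw, hvw⟩ := ht v; ⟨⟨w, hw⟩, hvw⟩, fun w => hz w⟩

/-- Over an affine open, a class vanishing on the geometric fibres vanishes on finitely many quasi-finite
schemes covering it. -/
theorem exists_cover_Hpull_eq_zero (V : Scheme.{u}) [IsAffine V] (j : V ⟶ Y) [IsOpenImmersion j]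
    (G : EtCoh.Ab X) (n : ℕ) (ξ : EtCoh.H X G n)
    (h : ∀ (v : V) (Ω : Type u) [Field Ω] [IsSepClosed Ω] [Algebra (V.residueField v) Ω]
      [Algebra.IsAlgebraic (V.residueField v) Ω],
      EtCore.Hpull (pullback.fst g (EtAcyc.geomPt V v Ω ≫ j)) G n ξ = 0) :
    ∃ (t : Finset V) (T : t → Scheme.{u}) (p : ∀ w, T w ⟶ V),
      (∀ w, IsAffine (T w)) ∧ (∀ w, LocallyQuasiFinite (p w)) ∧ (∀ w, LocallyOfFinitePresentation (p w)) ∧
      (∀ v : V, ∃ w, v ∈ Set.range (p w).base) ∧
      ∀ w, EtCore.Hpull (pullback.fst g (p w ≫ j)) G n ξ = 0 :=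
  exists_cover_Hpull_eq_zero' g V j G n (fun _ => ξ) fun v => h v (AlgebraicClosure (V.residueField v))

end Fibre

end Groth.Agent.LocAcycBC6
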