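import Groth.Agent.Lib.LocAcyc24.BaseChange
import Mathlib.AlgebraicGeometry.Pullbacks
import Mathlib.Algebra.Category.Ring.Constructions

/-!
# Cartesian squares of strict localisations for a base change integral on strict localisations
-/

set_option autoImplicit false
set_option linter.style.haveILetI false
set_option backward.isDefEq.respectTransparency.types false

universe u

open CategoryTheory CategoryTheory.Limits AlgebraicGeometry IsLocalRing
open scoped TensorProduct

namespace Groth.Agent.LocAcycBC6

open Groth.Agent.LocAcyc24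

variable {X S S' : Scheme.{u}} (f : X ⟶ S) (g : S' ⟶ S)

/-- The strict localisations of a base change along a morphism which is integral on strict
localisations are the tensor products of the strict localisations. -/
theorem exists_strictLocalization_isPullback
    (hg : ∀ (t' : S') (t : S) (A : Type u) [CommRing A] [IsLocalRing A] [Algebra (S.presheaf.stalk t) A]
      [IsLocalHom (algebraMap (S.presheaf.stalk t) A)] [Hensel.IsStrictHenselization (S.presheaf.stalk t) A]
      (A' : Type u) [CommRing A'] [IsLocalRing A'] [Algebra (S'.presheaf.stalk t') A']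
      [IsLocalHom (algebraMap (S'.presheaf.stalk t') A')]
      [Hensel.IsStrictHenselization (S'.presheaf.stalk t') A'] (φ : A →+* A') [IsLocalHom φ],
      Spec.map (CommRingCat.ofHom φ) ≫ Hens2.specOf S t A = Hens2.specOf S' t' A' ≫ g → φ.IsIntegral)
    (x' : (pullback f g : Scheme.{u}))
    (RS' RX' : Type u) [CommRing RS'] [CommRing RX'] [IsLocalRing RS'] [IsLocalRing RX']
    [Algebra (S'.presheaf.stalk ((pullback.snd f g).base x')) RS']
    [IsLocalHom (algebraMap (S'.presheaf.stalk ((pullback.snd f g).base x')) RS')]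
    [Hensel.IsStrictHenselization (S'.presheaf.stalk ((pullback.snd f g).base x')) RS']
    [Algebra ((pullback f g).presheaf.stalk x') RX']
    [IsLocalHom (algebraMap ((pullback f g).presheaf.stalk x') RX')]
    [Hensel.IsStrictHenselization ((pullback f g).presheaf.stalk x') RX']
    [Algebra RS' RX'] [IsLocalHom (algebraMap RS' RX')]
    (RS : Type u) [CommRing RS] [IsLocalRing RS]
    [Algebra (S.presheaf.stalk (f.base ((pullback.fst f g).base x'))) RS]
    [IsLocalHom (algebraMap (S.presheaf.stalk (f.base ((pullback.fst f g).base x'))) RS)]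
    [Hensel.IsStrictHenselization (S.presheaf.stalk (f.base ((pullback.fst f g).base x'))) RS]
    (RX : Type u) [CommRing RX] [IsLocalRing RX]
    [Algebra (X.presheaf.stalk ((pullback.fst f g).base x')) RX]
    [IsLocalHom (algebraMap (X.presheaf.stalk ((pullback.fst f g).base x')) RX)]
    [Hensel.IsStrictHenselization (X.presheaf.stalk ((pullback.fst f g).base x')) RX]
    (hc : (algebraMap RS' RX').comp (algebraMap (S'.presheaf.stalk ((pullback.snd f g).base x')) RS') =
      (algebraMap ((pullback f g).presheaf.stalk x') RX').comp ((pullback.snd f g).stalkMap x').hom) :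
    ∃ (γ : RS →+* RX) (φ : RS →+* RS') (β : RX →+* RX'),
      IsLocalHom γ ∧ φ.IsIntegral ∧
      γ.comp (algebraMap _ RS) =
        (algebraMap _ RX).comp (f.stalkMap ((pullback.fst f g).base x')).hom ∧
      Spec.map (CommRingCat.ofHom φ) ≫ Hens2.specOf S (f.base ((pullback.fst f g).base x')) RS =
        Hens2.specOf S' ((pullback.snd f g).base x') RS' ≫ g ∧
      IsPullback (Spec.map (CommRingCat.ofHom β)) (Spec.map (CommRingCat.ofHom (algebraMap RS' RX')))
        (Spec.map (CommRingCat.ofHom γ)) (Spec.map (CommRingCat.ofHom φ)) := by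
  let x := (pullback.fst f g).base x'
  haveI : HenselianLocalRing RS' :=
    Hensel.IsStrictHenselization.henselian (R := S'.presheaf.stalk ((pullback.snd f g).base x'))
  haveI : HenselianLocalRing RX' :=
    Hensel.IsStrictHenselization.henselian (R := (pullback f g).presheaf.stalk x')
  haveI : HenselianLocalRing RX := Hensel.IsStrictHenselization.henselian (R := X.presheaf.stalk x)
  haveI : HenselianLocalRing RS := Hensel.IsStrictHenselization.henselian (R := S.presheaf.stalk (f.base x))
  haveI := (Hensel.IsStrictHenselization.isSepClosure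
    (R := S'.presheaf.stalk ((pullback.snd f g).base x')) (S := RS')).1
  haveI := (Hensel.IsStrictHenselization.isSepClosure (R := (pullback f g).presheaf.stalk x') (S := RX')).1
  haveI := (Hensel.IsStrictHenselization.isSepClosure (R := X.presheaf.stalk x) (S := RX)).1
  haveI := (Hensel.IsStrictHenselization.isSepClosure (R := S.presheaf.stalk (f.base x)) (S := RS)).1
  have hsepS := (Hensel.IsStrictHenselization.isSepClosure (R := S.presheaf.stalk (f.base x)) (S := RS)).2
  have hsepX' := (Hensel.IsStrictHenselization.isSepClosure (R := (pullback f g).presheaf.stalk x') (S := RX')).2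
  let α : RS' →+* RX' := algebraMap RS' RX'
  haveI hαl : IsLocalHom α := inferInstanceAs (IsLocalHom (algebraMap RS' RX'))
  have hα := (specOf_compat (pullback.snd f g) α).1 hc
  -- the maps
  obtain ⟨β, hβl, hβ⟩ := exists_lift (X := X) (x := x) (R := RX)
    (Hens2.specOf (pullback f g) x' RX' ≫ pullback.fst f g) (by
      rw [Scheme.Hom.comp_apply]
      exact congrArg (pullback.fst f g).base (specOf_closedPoint (X := pullback f g) (x := x') (R := RX')))
  obtain ⟨φ, hφl, hφ⟩ := exists_lift (X := S) (x := f.base x) (R := RS)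
    (Hens2.specOf S' ((pullback.snd f g).base x') RS' ≫ g) (by
      rw [Scheme.Hom.comp_apply]
      refine (congrArg g.base (specOf_closedPoint (X := S') (R := RS'))).trans ?_
      exact (congrArg (fun m : pullback f g ⟶ S => m.base x') pullback.condition).symm)
  obtain ⟨f₀, hf₀l, hf₀⟩ := exists_localHom (T := RX) (x := f.base x) (Hens2.specOf X x RX ≫ f) (by
      rw [Scheme.Hom.comp_apply]
      exact congrArg f.base (specOf_closedPoint (X := X) (x := x) (R := RX)))
  have hsq : Spec.map (CommRingCat.ofHom (α.comp φ)) ≫ Hens2.specOf S (f.base x) RS =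
      Hens2.specOf (pullback f g) x' RX' ≫ pullback.fst f g ≫ f := by
    rw [CommRingCat.ofHom_comp, Spec.map_comp, Category.assoc, hφ, ← Category.assoc, hα, Category.assoc,
      pullback.condition]
  have hsq' : Spec.map (CommRingCat.ofHom (β.comp f₀)) ≫ S.fromSpecStalk (f.base x) =
      Hens2.specOf (pullback f g) x' RX' ≫ pullback.fst f g ≫ f := by
    rw [CommRingCat.ofHom_comp, Spec.map_comp, Category.assoc, hf₀, ← Category.assoc, hβ, Category.assoc]
  have hs0 : (α.comp φ).comp (algebraMap (S.presheaf.stalk (f.base x)) RS) = β.comp f₀ := by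
    refine ringHom_ext_specOf ?_
    rw [← specOf_map, hsq, hsq']
  haveI : IsLocalHom (α.comp φ) := RingHom.isLocalHom_comp _ _
  obtain ⟨τ, hτ⟩ := exists_factor (ResidueField.map β) (ResidueField.map (α.comp φ)) fun z => by
    haveI := hsepS
    refine mem_range_of_separable (k := ResidueField (S.presheaf.stalk (f.base x))) (ResidueField.map f₀) _ _
      (RingHom.ext fun y => ?_) z
    obtain ⟨a, rfl⟩ := residue_surjective y
    exact congrArg (residue RX') congr($hs0 a)
  obtain ⟨γ, hγl, hγ₀, hγ, hγres⟩ := exists_lift_residue f₀ τ (RingHom.ext fun y => by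
    obtain ⟨a, rfl⟩ := residue_surjective y
    refine (ResidueField.map β).injective ?_
    show ((ResidueField.map β).comp τ) _ = _
    rw [hτ]
    exact congrArg (residue RX') congr($hs0 a))
  have hγf : Spec.map (CommRingCat.ofHom γ) ≫ Hens2.specOf S (f.base x) RS = Hens2.specOf X x RX ≫ f :=
    hγ.trans hf₀
  have hcomm : β.comp γ = α.comp φ := by
    refine hom_ext (X := S) (x := f.base x) (α.comp φ) (β.comp γ) ?_ fun r => ?_
    · rw [hsq, CommRingCat.ofHom_comp, Spec.map_comp, Category.assoc, hγf, ← Category.assoc, hβ, Category.assoc]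
    · show ResidueField.map β (residue RX (γ r)) = _
      rw [hγres]
      exact congr($hτ (residue RS r))
  -- the tensor product
  letI : Algebra RS RS' := φ.toAlgebra
  letI : Algebra RS RX := γ.toAlgebra
  letI : Algebra RS RX' := (α.comp φ).toAlgebra
  haveI : IsScalarTower RS RS' RX' := IsScalarTower.of_algebraMap_eq fun _ => rfl
  haveI : IsLocalHom (algebraMap RS RS') := hφl
  haveI : IsLocalHom (algebraMap RS RX) := hγl
  haveI : Algebra.IsIntegral RS RS' := ⟨hg _ _ RS RS' φ hφ⟩
  haveI := Hens.isAlgebraic_residueField RS RS'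
  let βA : RX →ₐ[RS] RX' := { β with commutes' := fun r => congr($hcomm r) }
  let Ψ : RS' ⊗[RS] RX →ₐ[RS'] RX' :=
    Algebra.TensorProduct.lift (Algebra.ofId RS' RX') βA fun _ _ => Commute.all _ _
  let iB : RS' →+* RS' ⊗[RS] RX := (Algebra.TensorProduct.includeLeft : RS' →ₐ[RS] RS' ⊗[RS] RX).toRingHom
  let iC : RX →+* RS' ⊗[RS] RX := (Algebra.TensorProduct.includeRight : RX →ₐ[RS] RS' ⊗[RS] RX).toRingHom
  have hΨB : Ψ.toRingHom.comp iB = α := RingHom.ext fun b => by
    show Ψ (b ⊗ₜ[RS] (1 : RX)) = _
    rw [Algebra.TensorProduct.lift_tmul, map_one, mul_one]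
    rfl
  have hΨC : Ψ.toRingHom.comp iC = β := RingHom.ext fun c => by
    show Ψ ((1 : RS') ⊗ₜ[RS] c) = _
    rw [Algebra.TensorProduct.lift_tmul, map_one, one_mul]
    rfl
  obtain ⟨hTloc, hiC, -⟩ := Hens.isLocalRing_tensor_of_purelyInseparable RS RS' RX
  haveI := hTloc
  haveI : IsLocalHom iC := hiC
  have hTint : iC.IsIntegral := Hens.isIntegral_includeRight RS RS' RX
  obtain ⟨hTh, hTs⟩ : HenselianLocalRing (RS' ⊗[RS] RX) ∧ IsSepClosed (ResidueField (RS' ⊗[RS] RX)) := by
    letI : Algebra RX (RS' ⊗[RS] RX) := iC.toAlgebra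
    haveI : IsLocalHom (algebraMap RX (RS' ⊗[RS] RX)) := hiC
    haveI : Algebra.IsIntegral RX (RS' ⊗[RS] RX) := ⟨hTint⟩
    haveI := Hens.isAlgebraic_residueField RX (RS' ⊗[RS] RX)
    exact ⟨Hens.henselianLocalRing_of_isIntegral RX _,
      Hens.isSepClosed_of_isAlgebraic (ResidueField RX) (ResidueField (RS' ⊗[RS] RX))⟩
  haveI := hTh
  haveI := hTs
  haveI hΨl : IsLocalHom Ψ.toRingHom := by
    haveI : (maximalIdeal RX').comap Ψ.toRingHom |>.IsMaximal := by
      letI : Algebra RX (RS' ⊗[RS] RX) := iC.toAlgebra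
      haveI : Algebra.IsIntegral RX (RS' ⊗[RS] RX) := ⟨hTint⟩
      refine Ideal.isMaximal_of_isIntegral_of_isMaximal_comap (R := RX) _ ?_
      rw [Ideal.comap_comap, show Ψ.toRingHom.comp (algebraMap RX (RS' ⊗[RS] RX)) = β from hΨC,
        IsLocalRing.maximalIdeal_comap β]
      exact IsLocalRing.maximalIdeal.isMaximal _
    exact ⟨fun z hz => by_contra fun hn => ((IsLocalRing.eq_maximalIdeal this).ge hn : Ψ z ∈ maximalIdeal RX') hz⟩
  have e : iC.comp γ = iB.comp φ := RingHom.ext fun r => by
    show (1 : RS') ⊗ₜ[RS] algebraMap RS RX r = algebraMap RS RS' r ⊗ₜ[RS] (1 : RX)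
    rw [Algebra.algebraMap_eq_smul_one, Algebra.algebraMap_eq_smul_one, TensorProduct.tmul_smul,
      TensorProduct.smul_tmul']
  have haw : (Spec.map (CommRingCat.ofHom iC) ≫ Hens2.specOf X x RX) ≫ f =
      (Spec.map (CommRingCat.ofHom iB) ≫ Hens2.specOf S' ((pullback.snd f g).base x') RS') ≫ g := by
    refine (Category.assoc _ (Hens2.specOf X x RX) f).trans (Eq.trans ?_
      (Category.assoc _ (Hens2.specOf S' ((pullback.snd f g).base x') RS') g).symm)
    rw [← hγf, ← hφ, specOf_map, specOf_map, ← Spec.map_comp_assoc, ← Spec.map_comp_assoc,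
      ← CommRingCat.ofHom_comp, ← CommRingCat.ofHom_comp, ← RingHom.comp_assoc, ← RingHom.comp_assoc, e]
  let aT : Spec (CommRingCat.of (RS' ⊗[RS] RX)) ⟶ pullback f g := pullback.lift _ _ haw
  have hΨa : Spec.map (CommRingCat.ofHom Ψ.toRingHom) ≫ aT = Hens2.specOf (pullback f g) x' RX' := by
    apply pullback.hom_ext
    · rw [Category.assoc, pullback.lift_fst, ← Category.assoc, ← Spec.map_comp, ← CommRingCat.ofHom_comp,
        hΨC, hβ]
    · rw [Category.assoc, pullback.lift_snd, ← Category.assoc, ← Spec.map_comp, ← CommRingCat.ofHom_comp,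
        hΨB, hα]
  have hcp : aT (closedPoint (RS' ⊗[RS] RX)) = x' := by
    rw [← map_closedPoint Ψ.toRingHom, ← Scheme.Hom.comp_apply, hΨa]
    exact specOf_closedPoint
  obtain ⟨fT, hfTl, hfT⟩ := exists_localHom aT hcp
  have hΨf : Ψ.toRingHom.comp fT = algebraMap ((pullback f g).presheaf.stalk x') RX' := by
    refine ringHom_ext_specOf ?_
    rw [CommRingCat.ofHom_comp, Spec.map_comp, Category.assoc, hfT, hΨa]
  let σ : ResidueField (RS' ⊗[RS] RX) →+* ResidueField RX' := ResidueField.map Ψ.toRingHom
  have hσ : σ.comp (ResidueField.map fT) = algebraMap _ (ResidueField RX') := RingHom.ext fun y => by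
    obtain ⟨a, rfl⟩ := residue_surjective y
    exact congrArg (residue RX') congr($hΨf a)
  haveI := hsepX'
  let σe := RingEquiv.ofBijective σ ⟨σ.injective, Hens.surjective_of_isSepClosed σ (ResidueField.map fT) hσ⟩
  obtain ⟨h, hhl, -, hh, hhres⟩ := exists_lift_residue (X := pullback f g) (x := x') (R := RX') fT
    σe.symm.toRingHom (RingHom.ext fun y => by
      show σe.symm (algebraMap _ (ResidueField RX') y) = ResidueField.map fT y
      rw [← hσ]
      exact σe.symm_apply_apply _)
  have h1 : Ψ.toRingHom.comp h = RingHom.id RX' := by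
    refine hom_ext (X := pullback f g) (x := x') (RingHom.id RX') _ ?_ fun r => ?_
    · rw [CommRingCat.ofHom_comp, Spec.map_comp, Category.assoc, hh, hfT, hΨa]
      simp
    · show σe (residue _ (h r)) = residue RX' r
      rw [hhres]
      exact σe.apply_symm_apply _
  have hres : ∀ z w : RS' ⊗[RS] RX, Ψ z = Ψ w → residue _ z = residue _ w := fun z w e =>
    σ.injective (congrArg (residue RX') e : _)
  haveI : IsLocalHom iB := by
    haveI : IsLocalHom (Ψ.toRingHom.comp iB) := by rw [hΨB]; infer_instance
    exact isLocalHom_of_comp iB Ψ.toRingHom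
  have hB : h.comp α = iB := by
    refine hom_ext (X := S') (x := (pullback.snd f g).base x') iB _ ?_ fun r => hres _ _ ?_
    · rw [CommRingCat.ofHom_comp, Spec.map_comp, Category.assoc, hα, ← Category.assoc, hh, hfT,
        pullback.lift_snd]
    · exact (congr($h1 (α r))).trans (congr($hΨB r)).symm
  have hC : h.comp β = iC := by
    refine hom_ext (X := X) (x := x) iC _ ?_ fun r => hres _ _ ?_
    · rw [CommRingCat.ofHom_comp, Spec.map_comp, Category.assoc, hβ, ← Category.assoc, hh, hfT,
        pullback.lift_fst]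
    · exact (congr($h1 (β r))).trans (congr($hΨC r)).symm
  have hbij : Function.Bijective Ψ := by
    refine Function.bijective_iff_has_inverse.2 ⟨h, fun z => ?_, fun z => congr($h1 z)⟩
    induction z with
    | zero => simp
    | add a b ha hb => rw [map_add, map_add, ha, hb]
    | tmul b c =>
      rw [show Ψ (b ⊗ₜ[RS] c) = α b * β c from Algebra.TensorProduct.lift_tmul .., map_mul,
        show h (α b) = iB b from congr($hB b), show h (β c) = iC c from congr($hC c)]
      show (b ⊗ₜ[RS] (1 : RX)) * ((1 : RS') ⊗ₜ[RS] c) = _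
      rw [Algebra.TensorProduct.tmul_mul_tmul, mul_one, one_mul]
  refine ⟨γ, φ, β, hγl, fun z => Algebra.IsIntegral.isIntegral z, (specOf_compat f γ).2 hγf, hφ, ?_⟩
  let eT : CommRingCat.of (RS' ⊗[RS] RX) ≅ CommRingCat.of RX' :=
    (RingEquiv.ofBijective Ψ.toRingHom hbij).toCommRingCatIso
  have hp := (CommRingCat.isPushout_tensorProduct RS RS' RX).of_iso (Iso.refl _) (Iso.refl _) (Iso.refl _) eT
    (f' := CommRingCat.ofHom φ) (g' := CommRingCat.ofHom γ) (inl' := CommRingCat.ofHom α) (inr' := CommRingCat.ofHom β)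
    rfl rfl ((CommRingCat.hom_ext hΨB).trans (Category.id_comp _).symm) ((CommRingCat.hom_ext hΨC).trans (Category.id_comp _).symm)
  exact isPullback_SpecMap_of_isPushout _ _ _ _ hp.flip

end Groth.Agent.LocAcycBC6
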