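import Groth.Agent.Lib.LocAcycBC6.Main
import Groth.Agent.Lib.LocAcycBC6.SLBaseChange
import Groth.Agent.Lib.LocAcyc24.Main

/-!
# Comparison on strict localisations, and its base change along quasi-finite morphisms
-/

set_option autoImplicit false
universe u
set_option backward.isDefEq.respectTransparency.types false
set_option linter.style.haveILetI false

open CategoryTheory CategoryTheory.Limits AlgebraicGeometry Opposite IsLocalRing

namespace Groth.Agent.LocAcycBC6

open Groth.Agent.EtStalk Groth.Agent.EtAcyc24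

variable {X Y : Scheme.{u}}

/-- Pullback along a morphism compares cohomology of torsion sheaves up to degree `n`. -/
def BijUpTo {A B : Scheme.{u}} (m : A ⟶ B) (L : Set ℕ) (n : ℕ) : Prop :=
  ∀ F : EtCoh.Ab B, EtAcyc.IsLTorsion L F → ∀ q : ℕ, q ≤ n → Function.Bijective (EtCore.Hpull m F q)

/-- The range of degrees of a comparison may be shrunk. -/
theorem BijUpTo.mono {A B : Scheme.{u}} {m : A ⟶ B} {L : Set ℕ} {n k : ℕ} (h : BijUpTo m L n) (hk : k ≤ n) :
    BijUpTo m L k :=
  fun F hF q hq => h F hF q (hq.trans hk)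

/-- At every point, the base changes of the map of strict localisations along quasi-finite morphisms compare
cohomology up to degree `n`. -/
def LocBC (g : X ⟶ Y) (L : Set ℕ) (n : ℕ) : Prop :=
  ∀ x : X, ∃ (RX RY : Type u) (_ : CommRing RX) (_ : HenselianLocalRing RX) (_ : IsSepClosed (ResidueField RX))
    (_ : CommRing RY) (_ : HenselianLocalRing RY) (_ : IsSepClosed (ResidueField RY))
    (σx : Spec (CommRingCat.of RX) ⟶ X) (σy : Spec (CommRingCat.of RY) ⟶ Y)
    (sψ : Spec (CommRingCat.of RX) ⟶ Spec (CommRingCat.of RY)) (_ : sψ ≫ σy = σx ≫ g),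
    (closedPt RX ≫ σx) default = x ∧ Nonempty (StrictLim24.StrictSys σx) ∧ Nonempty (StrictLim24.StrictSys σy) ∧
    ∀ (T P : Scheme.{u}) (p : T ⟶ Y), LocallyQuasiFinite p → LocallyOfFiniteType p →
      ∀ (m : P ⟶ pullback p σy) (c : P ⟶ Spec (CommRingCat.of RX)), IsPullback m c (pullback.snd p σy) sψ →
        BijUpTo m L n

/-- The comparison for the map of strict localisations itself. -/
theorem bijective_Hpull_top {g : X ⟶ Y} {L : Set ℕ} {n : ℕ} {RX RY : Type u} [CommRing RX] [CommRing RY]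
    {σx : Spec (CommRingCat.of RX) ⟶ X} {σy : Spec (CommRingCat.of RY) ⟶ Y}
    {sψ : Spec (CommRingCat.of RX) ⟶ Spec (CommRingCat.of RY)}
    (h : ∀ (T P : Scheme.{u}) (p : T ⟶ Y), LocallyQuasiFinite p → LocallyOfFiniteType p →
      ∀ (m : P ⟶ pullback p σy) (c : P ⟶ Spec (CommRingCat.of RX)), IsPullback m c (pullback.snd p σy) sψ →
        BijUpTo m L n)
    (_e : sψ ≫ σy = σx ≫ g) (F : EtCoh.Ab (Spec (CommRingCat.of RY))) (hF : EtAcyc.IsLTorsion L F) (q : ℕ)
    (hq : q ≤ n) : Function.Bijective (EtCore.Hpull sψ F q) := by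
  let k : Spec (CommRingCat.of RY) ⟶ pullback (𝟙 Y) σy := pullback.lift σy (𝟙 _) (by simp)
  have hk : k ≫ pullback.snd (𝟙 Y) σy = 𝟙 _ := pullback.lift_snd _ _ _
  haveI : IsIso (pullback.snd (𝟙 Y) σy) := inferInstance
  have hm : (sψ ≫ k) ≫ pullback.snd (𝟙 Y) σy = sψ := by rw [Category.assoc, hk, Category.comp_id]
  have sq : IsPullback (sψ ≫ k) (𝟙 _) (pullback.snd (𝟙 Y) σy) sψ :=
    (IsPullback.of_vert_isIso ⟨by rw [hm, Category.id_comp]⟩)
  have h1 := h Y _ (𝟙 Y) inferInstance inferInstance _ _ sq _ (isLTorsion_pull (pullback.snd (𝟙 Y) σy) L hF) q hq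
  rw [← hm, Hpull_comp_eq]
  exact (bijective_comp_iso _ q).comp (h1.comp (LocAcyc24.bijective_Hpull_of_isIso _ _ q))

/-- The strict localisations at a point. -/
theorem exists_strictLoc (g : X ⟶ Y) (x : X) :
    let RX := Hens.Hsh (X.presheaf.stalk x)
    let RY := Hens.Hsh (Y.presheaf.stalk (g x))
    ∃ ψ : RY →+* RX, IsLocalHom ψ ∧
      Spec.map (CommRingCat.ofHom ψ) ≫ Hens2.specOf Y (g x) RY = Hens2.specOf X x RX ≫ g := by
  intro RX RY
  haveI : IsSepClosed (ResidueField RX) :=
    (Hensel.IsStrictHenselization.isSepClosure (R := X.presheaf.stalk x) (S := RX)).sep_closed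
  exact LocAcyc24.exists_lift (X := Y) (x := g x) (R := RY) (T := RX)
    (Hens2.specOf X x RX ≫ g) (by
      rw [Scheme.Hom.comp_apply]
      exact congrArg g.base LocAcyc24.specOf_closedPoint)

/-- The closed point of a strict localisation. -/
theorem closedPt_specOf (x : X) :
    (closedPt (Hens.Hsh (X.presheaf.stalk x)) ≫ Hens2.specOf X x (Hens.Hsh (X.presheaf.stalk x))) default = x := by
  rw [Scheme.Hom.comp_apply]
  refine Eq.trans (congrArg (Hens2.specOf X x (Hens.Hsh (X.presheaf.stalk x))).base ?_) LocAcyc24.specOf_closedPoint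
  rw [show (default : Spec (CommRingCat.of (ResidueField (Hens.Hsh (X.presheaf.stalk x))))) = closedPoint _ from
    Subsingleton.elim _ _]
  exact IsLocalRing.comap_closedPoint (IsLocalRing.residue _)

/-- Comparisons in a range of degrees give those in a smaller one. -/
theorem LocBC.mono {g : X ⟶ Y} {L : Set ℕ} {n m : ℕ} (h : LocBC g L n) (hm : m ≤ n) : LocBC g L m := by
  intro x
  obtain ⟨RX, RY, a, b, c, a', b', c', σx, σy, sψ, e, hx, hX, hY, hc⟩ := h x
  exact ⟨RX, RY, a, b, c, a', b', c', σx, σy, sψ, e, hx, hX, hY,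
    fun T P p hp hp' m' c sq => (hc T P p hp hp' m' c sq).mono hm⟩

/-- Local acyclicity gives the comparisons. -/
theorem locBC_of_locAcyclic {g : X ⟶ Y} {L : Set ℕ} {n : ℕ} (hg : EtAcyc.IsLocAcyclicN g L n) : LocBC g L n := by
  intro x
  let RX := Hens.Hsh (X.presheaf.stalk x)
  let RY := Hens.Hsh (Y.presheaf.stalk (g x))
  haveI : IsSepClosed (ResidueField RX) :=
    (Hensel.IsStrictHenselization.isSepClosure (R := X.presheaf.stalk x) (S := RX)).sep_closed
  haveI : IsSepClosed (ResidueField RY) :=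
    (Hensel.IsStrictHenselization.isSepClosure (R := Y.presheaf.stalk (g x)) (S := RY)).sep_closed
  obtain ⟨ψ, hψ, hψe⟩ := exists_strictLoc g x
  letI := ψ.toAlgebra
  haveI : IsLocalHom (algebraMap RY RX) := hψ
  have hacyc : EtAcyc.IsAcyclicN (Spec.map (CommRingCat.ofHom (algebraMap RY RX))) L n :=
    hg x RY RX ((LocAcyc24.specOf_compat g ψ).2 hψe)
  refine ⟨RX, RY, inferInstance, inferInstance, inferInstance, inferInstance, inferInstance, inferInstance,
    Hens2.specOf X x RX, Hens2.specOf Y (g x) RY, Spec.map (CommRingCat.ofHom ψ), hψe, closedPt_specOf x,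
    StrictLim24.nonempty_strictSys X x RX, StrictLim24.nonempty_strictSys Y (g x) RY,
    fun T P p hp hp' m c sq F hF q hq => ?_⟩
  haveI := hp
  haveI := hp'
  haveI : LocallyQuasiFinite (pullback.snd p (Hens2.specOf Y (g x) RY)) := MorphismProperty.pullback_snd _ _ hp
  haveI : LocallyOfFiniteType (pullback.snd p (Hens2.specOf Y (g x) RY)) := MorphismProperty.pullback_snd _ _ hp'
  exact ((compN_of_isPullback sq.flip hacyc) F hF).1 q hq

set_option maxHeartbeats 800000 in
/-- The comparisons pass to quasi-finite separated base changes. -/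
theorem locBC_baseChange {g : X ⟶ Y} {L : Set ℕ} {n : ℕ} (hg : EtAcyc.IsLocAcyclicN g L n) {Y' : Scheme.{u}}
    (i : Y' ⟶ Y) [LocallyQuasiFinite i] [LocallyOfFiniteType i] [IsSeparated i] :
    LocBC (pullback.snd g i) L n := by
  intro x'
  let g' := pullback.snd g i
  let x := (pullback.fst g i).base x'
  let RX := Hens.Hsh (X.presheaf.stalk x)
  let RY := Hens.Hsh (Y.presheaf.stalk (g.base x))
  let RX' := Hens.Hsh ((pullback g i).presheaf.stalk x')
  let RY' := Hens.Hsh (Y'.presheaf.stalk (g'.base x'))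
  haveI : IsSepClosed (ResidueField RX') :=
    (Hensel.IsStrictHenselization.isSepClosure (R := (pullback g i).presheaf.stalk x') (S := RX')).sep_closed
  haveI : IsSepClosed (ResidueField RY') :=
    (Hensel.IsStrictHenselization.isSepClosure (R := Y'.presheaf.stalk (g'.base x')) (S := RY')).sep_closed
  obtain ⟨α, hα, hαe⟩ := exists_strictLoc g' x'
  letI := α.toAlgebra
  haveI : IsLocalHom (algebraMap RY' RX') := hα
  obtain ⟨γ, φ, β, hγ, hφi, hγc, hφe, sqS⟩ := exists_strictLocalization_isPullback g i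
    (LocAcyc24.isIntegral_specOf_quasiFinite i) x' RY' RX' RY RX ((LocAcyc24.specOf_compat g' α).2 hαe)
  letI := γ.toAlgebra
  haveI : IsLocalHom (algebraMap RY RX) := hγ
  have hacyc : EtAcyc.IsAcyclicN (Spec.map (CommRingCat.ofHom (algebraMap RY RX))) L n := hg x RY RX hγc
  refine ⟨RX', RY', inferInstance, inferInstance, inferInstance, inferInstance, inferInstance, inferInstance,
    Hens2.specOf (pullback g i) x' RX', Hens2.specOf Y' (g'.base x') RY', Spec.map (CommRingCat.ofHom α), hαe,
    closedPt_specOf x', StrictLim24.nonempty_strictSys (pullback g i) x' RX',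
    StrictLim24.nonempty_strictSys Y' (g'.base x') RY', fun T P p hp hp' m c sq F hF q hq => ?_⟩
  haveI := hp
  haveI := hp'
  let σy : Spec (CommRingCat.of RY) ⟶ Y := Hens2.specOf Y (g.base x) RY
  let σ' : Spec (CommRingCat.of RY') ⟶ Y' := Hens2.specOf Y' (g'.base x') RY'
  let sφ : Spec (CommRingCat.of RY') ⟶ Spec (CommRingCat.of RY) := Spec.map (CommRingCat.ofHom φ)
  have hφe' : sφ ≫ σy = σ' ≫ i := hφe
  let ρ : Spec (CommRingCat.of RY') ⟶ pullback i σy := pullback.lift σ' sφ hφe'.symm
  haveI : IsIntegralHom sφ := IsIntegralHom.SpecMap_iff.2 hφi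
  haveI : IsSeparated (pullback.snd i σy) := MorphismProperty.pullback_snd _ _ ‹_›
  haveI : IsIntegralHom ρ := by
    haveI : IsIntegralHom (ρ ≫ pullback.snd i σy) := by rw [pullback.lift_snd]; infer_instance
    exact IsIntegralHom.of_comp ρ (pullback.snd i σy)
  let pc := p ≫ i
  let π : pullback p σ' ⟶ pullback pc σy := pullback.lift (pullback.fst p σ') (pullback.snd p σ' ≫ sφ)
    (by rw [Category.assoc, hφe', ← Category.assoc, pullback.condition, Category.assoc])
  let q₁ : pullback pc σy ⟶ pullback i σy := pullback.lift (pullback.fst pc σy ≫ p) (pullback.snd pc σy)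
    (by rw [Category.assoc]; exact pullback.condition)
  have sq₁ : IsPullback (pullback.fst pc σy) q₁ p (pullback.fst i σy) := by
    refine IsPullback.of_bot ?_ (pullback.lift_fst _ _ _).symm (IsPullback.of_hasPullback i σy)
    rw [pullback.lift_snd]
    exact IsPullback.of_hasPullback pc σy
  have sqπ : IsPullback π (pullback.snd p σ') q₁ ρ := by
    refine IsPullback.of_right ?_ ?_ sq₁
    · rw [pullback.lift_fst, pullback.lift_fst]
      exact IsPullback.of_hasPullback p σ'
    · apply pullback.hom_ext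
      · rw [Category.assoc, pullback.lift_fst, ← Category.assoc, pullback.lift_fst, Category.assoc, pullback.lift_fst]
        exact pullback.condition
      · rw [Category.assoc, pullback.lift_snd, pullback.lift_snd, Category.assoc, pullback.lift_snd]
  haveI : IsIntegralHom π := MorphismProperty.of_isPullback sqπ.flip ‹IsIntegralHom ρ›
  haveI : LocallyQuasiFinite pc := inferInstance
  haveI : LocallyQuasiFinite (pullback.snd pc σy) := MorphismProperty.pullback_snd _ _ ‹_›
  haveI : LocallyOfFiniteType (pullback.snd pc σy) := MorphismProperty.pullback_snd _ _ (inferInstance : LocallyOfFiniteType pc)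
  let sψ : Spec (CommRingCat.of RX) ⟶ Spec (CommRingCat.of RY) := Spec.map (CommRingCat.ofHom γ)
  let μ := pullback.fst (pullback.snd pc σy) sψ
  let sβ : Spec (CommRingCat.of RX') ⟶ Spec (CommRingCat.of RX) := Spec.map (CommRingCat.ofHom β)
  have hπs : π ≫ pullback.snd pc σy = pullback.snd p σ' ≫ sφ := pullback.lift_snd _ _ _
  have hout : IsPullback (c ≫ sβ) m sψ (π ≫ pullback.snd pc σy) := by
    rw [hπs]
    exact sq.flip.paste_horiz sqS
  let π' : P ⟶ pullback (pullback.snd pc σy) sψ := pullback.lift (m ≫ π) (c ≫ sβ)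
    (by rw [Category.assoc]; exact hout.w.symm)
  have sqm : IsPullback m π' π μ := by
    refine (IsPullback.of_right ?_ (pullback.lift_fst _ _ _) (IsPullback.of_hasPullback (pullback.snd pc σy) sψ).flip).flip
    rw [pullback.lift_snd]
    exact hout
  exact bijective_Hpull_of_integral sqm L n (compN_of_isPullback (IsPullback.of_hasPullback _ sψ).flip hacyc)
    F (isLTorsion_push π L hF) q hq

variable {Xb Yb : Scheme.{u}} {g : X ⟶ Y} {p : Yb ⟶ Y} {pY : Xb ⟶ X} {hb : Xb ⟶ Yb}
  [QuasiCompact p] [QuasiSeparated p] [LocallyQuasiFinite p] [LocallyOfFiniteType p]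
  {L : Set ℕ} {n : ℕ}

/-- Base change in degree zero. -/
theorem LocBC.isIso_baseChange0 (hg : LocBC g L n) (sq : IsPullback hb pY p g) {J : EtCoh.Ab Yb}
    (hJ : EtAcyc.IsLTorsion L J) : IsIso (EtCoh.baseChange0 p g pY hb sq.w J) := by
  haveI : QuasiCompact pY := MorphismProperty.of_isPullback sq ‹QuasiCompact p›
  haveI : QuasiSeparated pY := MorphismProperty.of_isPullback sq ‹QuasiSeparated p›
  refine NearLA6.isIso_of_points _ fun x => ?_
  obtain ⟨RX, RY, _, _, _, _, _, _, σx, σy, sψ, e, hx, ⟨TX⟩, ⟨TY⟩, hb'⟩ := hg x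
  refine ⟨_, inferInstance, inferInstance, closedPt RX ≫ σx, hx, ?_⟩
  refine bijective_stalk_baseChange0 sq.w e TX TY J (NearLA6.bijective_sec_top sψ _ ?_)
    (NearLA6.bijective_sec_top (locMap sq.w e) _ (hb' Yb _ p ‹_› ‹_› _ _ (isPullback_locMap e sq) _
      (isLTorsion_pull (pullback.fst p σy) L hJ) 0 (Nat.zero_le n)))
  exact bijective_Hpull_top hb' e _ (isLTorsion_pull σy L (isLTorsion_push p L hJ)) 0 (Nat.zero_le n)

/-- Vanishing of higher direct images is inherited. -/
theorem LocBC.isZero_Rpush (hg : LocBC g L n) (sq : IsPullback hb pY p g) {J : EtCoh.Ab Yb}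
    (hJ : EtAcyc.IsLTorsion L J) (q : ℕ) (hq : q ≤ n) (hz : IsZero ((EtCoh.Rpush p q).obj J)) :
    IsZero ((EtCoh.Rpush pY q).obj ((EtCoh.pull hb).obj J)) := by
  haveI : QuasiCompact pY := MorphismProperty.of_isPullback sq ‹QuasiCompact p›
  haveI : QuasiSeparated pY := MorphismProperty.of_isPullback sq ‹QuasiSeparated p›
  refine NearLA6.isZero_of_points _ fun x => ?_
  obtain ⟨RX, RY, _, _, _, _, _, _, σx, σy, sψ, e, hx, ⟨TX⟩, ⟨TY⟩, hb'⟩ := hg x
  refine ⟨_, inferInstance, inferInstance, closedPt RX ≫ σx, hx, ?_⟩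
  exact isZero_stalk_Rpush_bc sq.w e TX TY J q hz
    (hb' Yb _ p ‹_› ‹_› _ _ (isPullback_locMap e sq) _ (isLTorsion_pull (pullback.fst p σy) L hJ) q hq)

end Groth.Agent.LocAcycBC6
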