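import Groth.Agent.Lib.EtAcyc24.GeomFibre

/-!
# Global sections of constant sheaves on connected schemes
-/

set_option autoImplicit false
set_option linter.style.haveILetI false
set_option backward.isDefEq.respectTransparency.types false

universe u

open CategoryTheory CategoryTheory.Limits AlgebraicGeometry Opposite CategoryTheory.Abelian

namespace Groth.Agent.LocAcycBC6

open Groth.Agent.EtStalk Groth.Agent.EtAcyc24

variable (Z : Scheme.{u}) [ConnectedSpace Z] (M : Type) [AddCommGroup M]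

/-- On a connected scheme every section of a constant sheaf is constant. -/
theorem bijective_constSec_top : Function.Bijective (LocConst24.constSec Z M (EtCoh.top Z)) := by
  obtain ⟨z₀⟩ := (inferInstance : Nonempty Z)
  constructor
  · intro m n e
    obtain ⟨φ, -⟩ := exists_fib (EtCoh.top Z) z₀
    exact (LocConst24.bijAt_constSec Z M (EtCoh.top Z) _ _ φ).1 (congrArg (fun r => germ _ (EtCoh.const Z M) φ r) e)
  · intro s
    let C : M → Set (EtCoh.top Z).left := fun m => agree (EtCoh.const Z M) s (LocConst24.constSec Z M (EtCoh.top Z) m)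
    have hex : ∀ z, ∃ m, z ∈ C m := fun z => by
      obtain ⟨φ, hφ⟩ := exists_fib (EtCoh.top Z) z
      obtain ⟨m, hm⟩ := (LocConst24.bijAt_constSec Z M (EtCoh.top Z) _ _ φ).2 (germ _ (EtCoh.const Z M) φ s)
      exact ⟨m, hφ ▸ (mem_agree_iff_germ _ φ s _).2 hm.symm⟩
    have huni : ∀ z m n, z ∈ C m → z ∈ C n → m = n := fun z m n hm hn => by
      obtain ⟨φ, hφ⟩ := exists_fib (EtCoh.top Z) z
      have hm' : fibPt φ ∈ C m := by rw [show fibPt φ = z from hφ]; exact hm
      have hn' : fibPt φ ∈ C n := by rw [show fibPt φ = z from hφ]; exact hn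
      exact (LocConst24.bijAt_constSec Z M (EtCoh.top Z) _ _ φ).1
        (((mem_agree_iff_germ _ φ s _).1 hm').symm.trans ((mem_agree_iff_germ _ φ s _).1 hn'))
    obtain ⟨m, hm⟩ := hex z₀
    have hcl : IsClopen (C m) := by
      refine ⟨⟨?_⟩, isOpen_agree _ _ _⟩
      rw [show (C m)ᶜ = ⋃ n ∈ {n | n ≠ m}, C n from ?_]
      · exact isOpen_biUnion fun n _ => isOpen_agree _ _ _
      · ext z
        refine ⟨fun hz => ?_, fun hz hzm => ?_⟩
        · obtain ⟨n, hn⟩ := hex z
          exact Set.mem_iUnion₂.2 ⟨n, fun h => hz (h ▸ hn), hn⟩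
        · obtain ⟨n, hne, hn⟩ := Set.mem_iUnion₂.1 hz
          exact hne (huni z n m hn hzm)
    have huniv : C m = Set.univ := @IsClopen.eq_univ Z _ _ (C m) hcl ⟨z₀, hm⟩
    exact ⟨m, (eq_of_agree (EtCoh.const Z M) fun z => show z ∈ C m by rw [huniv]; exact Set.mem_univ z).symm⟩

/-- Degree zero cohomology is the group of global sections. -/
noncomputable def H0AddEquiv (Z : Scheme.{u}) (G : EtCoh.Ab Z) :
    EtCoh.H Z G 0 ≃+ G.obj.obj (op (EtCoh.top Z)) :=
  Ext.addEquiv₀.trans (AddEquiv.ofBijective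
    ({ toFun := fun a : EtCoh.const Z ℤ ⟶ G => a.hom.app (op (EtCoh.top Z)) (oneSec Z)
       map_zero' := rfl
       map_add' := fun _ _ => rfl } : (EtCoh.const Z ℤ ⟶ G) →+ G.obj.obj (op (EtCoh.top Z)))
    ⟨fun _ _ h => const_hom_ext h, fun s => exists_hom_one s⟩)

/-- The constant classes on a connected scheme. -/
theorem nonempty_H0_const_addEquiv : Nonempty (EtCoh.H Z (EtCoh.const Z M) 0 ≃+ M) :=
  ⟨(H0AddEquiv Z (EtCoh.const Z M)).trans (AddEquiv.ofBijective _ (bijective_constSec_top Z M)).symm⟩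

/-- A connected scheme over a separably closed field has only constant classes in degree zero. -/
theorem surjective_Hpull_zero {Ω : Type u} [Field Ω] [IsSepClosed Ω] (ρ : Z ⟶ Spec (CommRingCat.of Ω))
    (N : ℕ) [NeZero N] :
    Function.Surjective (EtCore.Hpull ρ (EtCoh.const (Spec (CommRingCat.of Ω)) (ZMod N)) 0) := by
  haveI : IsSepClosed (IsLocalRing.ResidueField Ω) :=
    EtPic3.isSepClosed_of_ringEquiv (RingEquiv.ofBijective (algebraMap Ω (IsLocalRing.ResidueField Ω))
      ⟨(algebraMap Ω (IsLocalRing.ResidueField Ω)).injective, Ideal.Quotient.mk_surjective⟩)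
  exact (LocAcyc24.bijective_Hpull_zmod_zero (ρ := ρ) N (nonempty_H0_const_addEquiv Z (ZMod N))).2

/-- On a connected scheme every map from the constant integers to a constant sheaf is constant. -/
theorem exists_eq_cs_map (a : EtCoh.const Z ℤ ⟶ EtCoh.const Z M) :
    ∃ φ : AddCommGrpCat.of (ULift.{u + 1} ℤ) ⟶ AddCommGrpCat.of (ULift.{u + 1} M), a = (LocAcyc24.cs Z).map φ := by
  obtain ⟨m, hm⟩ := (bijective_constSec_top Z M).2 (a.hom.app (op (EtCoh.top Z)) (oneSec Z))
  let φ : AddCommGrpCat.of (ULift.{u + 1} ℤ) ⟶ AddCommGrpCat.of (ULift.{u + 1} M) :=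
    AddCommGrpCat.ofHom (AddEquiv.ulift.symm.toAddMonoidHom.comp ((zmultiplesHom M m).comp AddEquiv.ulift.toAddMonoidHom))
  refine ⟨φ, const_hom_ext (hm.symm.trans ?_)⟩
  have h1 : φ (ULift.up 1) = ULift.up m := congrArg ULift.up (one_zsmul m)
  have h2 := (ConcreteCategory.congr_hom (NatTrans.congr_app (toSheafify_naturality Z.smallEtaleTopology
    ((Functor.const Z.Etaleᵒᵖ).map φ)) (op (EtCoh.top Z))) (ULift.up 1)).symm
  refine Eq.trans ?_ h2.symm
  show LocAcyc24.cst _ (EtCoh.top Z) (ULift.up m) = LocAcyc24.cst _ (EtCoh.top Z) (φ (ULift.up 1))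
  rw [h1]

omit [ConnectedSpace Z] in
/-- Constant classes of the base hit all classes of a connected scheme over it. -/
theorem surjective_Hpull_const_zero {Y : Scheme.{u}} (σ : Z ⟶ Y) [ConnectedSpace Z] :
    Function.Surjective (EtCore.Hpull σ (EtCoh.const Y M) 0) := by
  intro z
  obtain ⟨b, rfl⟩ := (Ext.mk₀_bijective _ _).2 z
  obtain ⟨φ, hφ⟩ := exists_eq_cs_map Z M (b ≫ (EtCore.pullConst σ M).hom)
  refine ⟨Ext.mk₀ ((LocAcyc24.cs Y).map φ), ?_⟩
  rw [Hpull_eq, Ext.mapExactFunctor_mk₀, Ext.mk₀_comp_mk₀]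
  refine congrArg _ ?_
  refine ((EtCore.pullConstIso σ).inv.naturality φ).symm.trans ?_
  refine (congrArg (· ≫ (EtCore.pullConstIso σ).inv.app _) hφ.symm).trans ?_
  exact (Category.assoc _ _ _).trans ((congrArg (b ≫ ·) (EtCore.pullConst σ M).hom_inv_id).trans (Category.comp_id b))

end Groth.Agent.LocAcycBC6
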