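import Groth.Agent.Lib.LocAcycBC6.Global
import Groth.Agent.Lib.EtAcyc24.BCDescent
import Groth.Agent.Lib.EtStalk.FiniteStalk

/-!
# Vanishing of classes: partitions, composites, and locally on the étale site
-/

set_option autoImplicit false
set_option linter.style.haveILetI false
set_option backward.isDefEq.respectTransparency.types false

universe u

open CategoryTheory CategoryTheory.Limits AlgebraicGeometry Opposite CategoryTheory.Abelian

namespace Groth.Agent.LocAcycBC6

open Groth.Agent.EtStalk Groth.Agent.EtAcyc24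

/-- Vanishing along a composite. -/
theorem Hpull_comp_eq_zero_iff {A B C : Scheme.{u}} (f : A ⟶ B) (g : B ⟶ C) (h : A ⟶ C) (w : f ≫ g = h)
    (G : EtCoh.Ab C) (n : ℕ) (x : EtCoh.H C G n) :
    EtCore.Hpull h G n x = 0 ↔ EtCore.Hpull f ((EtCoh.pull g).obj G) n (EtCore.Hpull g G n x) = 0 := by
  subst w
  rw [← FieldH25.Hpull_comp f g G n x]
  refine ⟨fun e => FieldH25.eq_zero_of_comp_iso _ ((EtCore.pullComp f g).symm.app G) e, fun e => ?_⟩
  rw [e, Ext.zero_comp]

/-- Vanishing after an isomorphism of coefficients. -/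
theorem Hpull_comp_iso_eq_zero_iff {A B : Scheme.{u}} (f : A ⟶ B) {G G' : EtCoh.Ab B} (e : G ≅ G') (n : ℕ)
    (x : EtCoh.H B G n) :
    EtCore.Hpull f G' n (x.comp (Ext.mk₀ e.hom) (add_zero n)) = 0 ↔ EtCore.Hpull f G n x = 0 := by
  rw [← LocAcyc24.Hpull_nat]
  refine ⟨fun h => FieldH25.eq_zero_of_comp_iso _ ((EtCoh.pull f).mapIso e) h, fun h => ?_⟩
  rw [h, Ext.zero_comp]

variable {Z : Scheme.{u}}

/-- A pulled back global section on an étale scheme, through the restriction. -/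
lemma pull_hom_one_etale (W : Z.Etale) (d : EtCoh.top W.left ⟶ (EtCoh.bc W.hom).obj W) {F : EtCoh.Ab Z}
    (a : EtCoh.const Z ℤ ⟶ F) :
    ((EtCore.pullConst W.hom ℤ).inv ≫ (EtCoh.pull W.hom).map a).hom.app (op (EtCoh.top W.left)) (oneSec W.left) =
      ((EtCoh.pull W.hom).obj F).obj.map d.op ((uHom W.hom F).hom.app (op W)
        (F.obj.map ((EtCore.topIsTerminal Z).from W).op (a.hom.app (op (EtCoh.top Z)) (oneSec Z)))) := by
  refine (pull_hom_one W.hom a).trans ?_
  refine Eq.trans ?_ (congrArg _ (NatTrans.naturality_apply (uHom W.hom F).hom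
    ((EtCore.topIsTerminal Z).from W).op _).symm)
  refine Eq.trans ?_ (map_comp_apply_op _ d ((EtCoh.bc W.hom).map ((EtCore.topIsTerminal Z).from W)) _)
  exact map_terminal (EtCore.bcTopIsTerminal W.hom) _ _ _

/-- The diagonal of an étale scheme. -/
noncomputable def diag (W : Z.Etale) : EtCoh.top W.left ⟶ (EtCoh.bc W.hom).obj W :=
  MorphismProperty.Over.homMk (pullback.lift (𝟙 _) (𝟙 _) rfl) (pullback.lift_snd _ _ _)

lemma isIso_diag_fst (W : Z.Etale) : IsIso ((diag W).left ≫ bcFst W.hom W) := by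
  rw [show (diag W).left ≫ bcFst W.hom W = 𝟙 _ from pullback.lift_fst _ _ _]
  exact inferInstanceAs (IsIso (𝟙 W.left))

/-- A section lifting on an étale scheme has vanishing obstruction there. -/
theorem Hpull_eq_zero_of_lift {S : ShortComplex (EtCoh.Ab Z)} (hS : S.ShortExact) (W : Z.Etale)
    (a : EtCoh.const Z ℤ ⟶ S.X₃) (y : S.X₂.obj.obj (op W))
    (hy : S.g.hom.app (op W) y =
      S.X₃.obj.map ((EtCore.topIsTerminal Z).from W).op (a.hom.app (op (EtCoh.top Z)) (oneSec Z))) :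
    EtCore.Hpull W.hom S.X₁ 1 ((Ext.mk₀ a).comp hS.extClass rfl) = 0 := by
  haveI : Etale W.hom := W.prop
  haveI : (EtCoh.pull W.hom).Additive := (EtCoh.pullPushAdj W.hom).left_adjoint_additive
  obtain ⟨c, hc⟩ := exists_hom_one (((EtCoh.pull W.hom).obj S.X₂).obj.map (diag W).op ((uHom W.hom S.X₂).hom.app (op W) y))
  have e : c ≫ (EtCoh.pull W.hom).map S.g = (EtCore.pullConst W.hom ℤ).inv ≫ (EtCoh.pull W.hom).map a := by
    refine const_hom_ext (Eq.trans ?_ (pull_hom_one_etale W (diag W) a).symm)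
    refine (congrArg (((EtCoh.pull W.hom).map S.g).hom.app (op (EtCoh.top W.left))) hc).trans ?_
    refine (NatTrans.naturality_apply ((EtCoh.pull W.hom).map S.g).hom (diag W).op _).trans ?_
    refine congrArg _ (Eq.trans ?_ (congrArg _ hy))
    exact (congrArg (fun t : S.X₂ ⟶ (EtCoh.push W.hom).obj ((EtCoh.pull W.hom).obj S.X₃) =>
      t.hom.app (op W) y) ((EtCoh.pullPushAdj W.hom).unit.naturality S.g)).symm
  rw [Hpull_delta]
  have hv : EtCore.Hpull W.hom S.X₃ 0 (Ext.mk₀ a) = (Ext.mk₀ c).comp (Ext.mk₀ ((EtCoh.pull W.hom).map S.g)) (add_zero 0) := by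
    rw [Ext.mk₀_comp_mk₀, e, Hpull_eq, Ext.mapExactFunctor_mk₀, Ext.mk₀_comp_mk₀]
  rw [hv]
  exact (Ext.comp_assoc_of_second_deg_zero _ _ _ _).trans
    (by erw [(hS.map_of_exact (EtCoh.pull W.hom)).comp_extClass, Ext.comp_zero]; rfl)

/-- Classes of positive degree vanish locally on the étale site. -/
theorem exists_etale_Hpull_eq_zero (m : ℕ) : ∀ (F : EtCoh.Ab Z) (x : EtCoh.H Z F (m + 1)) (z : Z),
    ∃ W : Z.Etale, z ∈ Set.range W.hom ∧ EtCore.Hpull W.hom F (m + 1) x = 0 := by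
  induction m with
  | zero =>
    intro F x z
    obtain ⟨I, Q, i, q, wiq, hS, hI⟩ := exists_inj_ses F
    let S := ShortComplex.mk i q wiq
    haveI : Injective S.X₂ := hI
    obtain ⟨s, rfl⟩ := Ext.covariant_sequence_exact₁ _ hS x (Ext.eq_zero_of_injective _) (n₀ := 0) rfl
    obtain ⟨a, rfl⟩ := (Ext.mk₀_bijective _ _).2 s
    haveI : Epi S.g := hS.epi_g
    haveI : Sheaf.IsLocallySurjective S.g := (Sheaf.isLocallySurjective_iff_epi' _ S.g).2 inferInstance
    have hcov := Presheaf.imageSieve_mem Z.smallEtaleTopology S.g.hom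
      (a.hom.app (op (EtCoh.top Z)) (oneSec Z))
    rw [EtSite.mem_et_iff] at hcov
    obtain ⟨W, f, w, ⟨y, hy⟩, hw⟩ := hcov z
    refine ⟨W, ⟨w, ?_⟩, Hpull_eq_zero_of_lift hS W a y (hy.trans ?_)⟩
    · exact ((congrArg (fun φ : W.left ⟶ Z => φ w) ((Category.comp_id _).symm.trans (MorphismProperty.Over.w f))).symm.trans hw)
    · exact map_terminal (EtCore.topIsTerminal Z) _ _ _
  | succ m ih =>
    intro F x z
    obtain ⟨I, Q, i, q, wiq, hS, hI⟩ := exists_inj_ses F
    let S := ShortComplex.mk i q wiq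
    haveI : Injective S.X₂ := hI
    obtain ⟨ζ, rfl⟩ := Ext.covariant_sequence_exact₁ _ hS x (Ext.eq_zero_of_injective _) (n₀ := m + 1) rfl
    obtain ⟨W, hz, hW⟩ := ih S.X₃ ζ z
    exact ⟨W, hz, (Hpull_delta W.hom hS ζ).trans ((congrArg (fun t => Ext.comp t _ rfl) hW).trans (Ext.zero_comp ..))⟩

/-- A class vanishing on the pieces of an open partition vanishes. -/
theorem eq_zero_of_partition {κ : Type u} (P : κ → (EtCoh.top Z).left.Opens) (hP : ∀ z, ∃! l, z ∈ P l) (n : ℕ) :
    ∀ (G : EtCoh.Ab Z) (x : EtCoh.H Z G n),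
      (∀ l, EtCore.Hpull (EtSite.sub (EtCoh.top Z) (P l)).hom G n x = 0) → x = 0 := by
  induction n with
  | zero =>
    intro G x hx
    obtain ⟨a, rfl⟩ := (Ext.mk₀_bijective _ _).2 x
    have hl : ∀ l, G.obj.map (EtSite.subHom (EtCoh.top Z) (P l)).op (a.hom.app _ (oneSec Z)) = 0 := by
      intro l
      let W := EtSite.sub (EtCoh.top Z) (P l)
      haveI : Etale W.hom := W.prop
      have h := hx l
      rw [Hpull_eq, Ext.mapExactFunctor_mk₀, Ext.mk₀_comp_mk₀] at h
      have h' : (EtCore.pullConst W.hom ℤ).inv ≫ (EtCoh.pull W.hom).map a = 0 :=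
        (Ext.mk₀_bijective _ _).1 (h.trans (Ext.mk₀_zero ..).symm)
      refine (map_terminal (EtCore.topIsTerminal Z) _ ((EtCore.topIsTerminal Z).from W) _).trans ?_
      refine (bijective_map_unit W.hom G (diag W) (isIso_diag_fst W)).1 ?_
      dsimp only
      rw [← pull_hom_one_etale W (diag W) a, h', map_zero]
      exact Eq.trans rfl (map_zero (ConcreteCategory.hom (((EtCoh.pull W.hom).obj G).obj.map (diag W).op))).symm
    obtain ⟨t, ht, hu⟩ := existsUnique_glue_parts G (EtCoh.top Z) P hP (fun _ => 0)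
    have e0 : a.hom.app _ (oneSec Z) = 0 := (hu _ hl).trans (hu 0 fun l => map_zero _).symm
    rw [show a = 0 from const_hom_ext (e0.trans rfl), Ext.mk₀_zero]
  | succ n ih =>
    intro G x hx
    obtain ⟨I, Q, i, q, wiq, hS, hI⟩ := exists_inj_ses G
    let S := ShortComplex.mk i q wiq
    haveI : Injective S.X₂ := hI
    obtain ⟨ζ, rfl⟩ := Ext.covariant_sequence_exact₁ _ hS x (Ext.eq_zero_of_injective _) (n₀ := n) rfl
    cases n with
    | zero =>
      obtain ⟨a, rfl⟩ := (Ext.mk₀_bijective _ _).2 ζ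
      choose y hy using fun l => exists_lift_of_Hpull_eq_zero hS (EtSite.sub (EtCoh.top Z) (P l)) a (hx l)
      obtain ⟨y₀, hy₀, -⟩ := existsUnique_glue_parts S.X₂ (EtCoh.top Z) P hP y
      have e : S.g.hom.app (op (EtCoh.top Z)) y₀ = a.hom.app _ (oneSec Z) := by
        refine (existsUnique_glue_parts S.X₃ (EtCoh.top Z) P hP (fun l => S.X₃.obj.map
          ((EtCore.topIsTerminal Z).from (EtSite.sub (EtCoh.top Z) (P l))).op (a.hom.app _ (oneSec Z)))).unique (fun l => ?_)
          (fun l => map_terminal (EtCore.topIsTerminal Z) _ _ _)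
        exact ((NatTrans.naturality_apply S.g.hom (EtSite.subHom (EtCoh.top Z) (P l)).op y₀).symm.trans
          (congrArg _ (hy₀ l))).trans (hy l)
      obtain ⟨c, hc⟩ := exists_hom_one y₀
      have e' : c ≫ S.g = a := const_hom_ext ((congrArg _ hc).trans e)
      rw [← e', ← Ext.mk₀_comp_mk₀]
      exact (Ext.comp_assoc_of_second_deg_zero _ _ _ _).trans (by erw [hS.comp_extClass, Ext.comp_zero])
    | succ n =>
      rw [ih S.X₃ ζ fun l => Hpull_eq_zero_of_injective hS _ ζ (hx l)]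
      exact Ext.zero_comp ..

end Groth.Agent.LocAcycBC6
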