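import Groth.Agent.Lib.LocAcycBC6.LocBC

/-!
# Monicity of base change in degree zero along surjective maps of strict localisations
-/

set_option autoImplicit false
universe u
set_option backward.isDefEq.respectTransparency.types false
set_option linter.style.haveILetI false

open CategoryTheory CategoryTheory.Limits AlgebraicGeometry Opposite IsLocalRing

namespace Groth.Agent.LocAcycBC6

open Groth.Agent.EtStalk Groth.Agent.EtAcyc24

variable {X Y : Scheme.{u}}

/-- At every point the map of strict localisations is surjective. -/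
def SurjLoc (g : X ⟶ Y) : Prop :=
  ∀ x : X, ∃ (RX RY : Type u) (_ : CommRing RX) (_ : HenselianLocalRing RX) (_ : IsSepClosed (ResidueField RX))
    (_ : CommRing RY) (_ : HenselianLocalRing RY) (_ : IsSepClosed (ResidueField RY))
    (σx : Spec (CommRingCat.of RX) ⟶ X) (σy : Spec (CommRingCat.of RY) ⟶ Y)
    (sψ : Spec (CommRingCat.of RX) ⟶ Spec (CommRingCat.of RY)) (_ : sψ ≫ σy = σx ≫ g),
    (closedPt RX ≫ σx) default = x ∧ Nonempty (StrictLim24.StrictSys σx) ∧ Nonempty (StrictLim24.StrictSys σy) ∧
    (closedPt RX ≫ sψ) default = closedPt RY default ∧ Function.Surjective sψ.base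

/-- Surjective maps of strict localisations stay so after quasi-finite base change. -/
theorem surjLoc_baseChange {g : X ⟶ Y}
    (hg : EtAcyc.OnStrictLocalizations g fun _ _ h => Function.Surjective h.base) {Y' : Scheme.{u}}
    (i : Y' ⟶ Y) [LocallyQuasiFinite i] [LocallyOfFiniteType i] : SurjLoc (pullback.snd g i) := by
  intro x'
  let g' := pullback.snd g i
  let x := (pullback.fst g i).base x'
  let RX := Hens.Hsh (X.presheaf.stalk x)
  let RY := Hens.Hsh (Y.presheaf.stalk (g.base x))
  let RX' := Hens.Hsh ((pullback g i).presheaf.stalk x')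
  let RY' := Hens.Hsh (Y'.presheaf.stalk (g'.base x'))
  haveI : IsSepClosed (ResidueField RX') :=
    (Hensel.IsStrictHenselization.isSepClosure (R := (pullback g i).presheaf.stalk x') (S := RX')).sep_closed
  haveI : IsSepClosed (ResidueField RY') :=
    (Hensel.IsStrictHenselization.isSepClosure (R := Y'.presheaf.stalk (g'.base x')) (S := RY')).sep_closed
  obtain ⟨α, hα, hαe⟩ := exists_strictLoc g' x'
  letI := α.toAlgebra
  haveI : IsLocalHom (algebraMap RY' RX') := hα
  obtain ⟨γ, φ, β, hγ, -, hγc, -, sqS⟩ := exists_strictLocalization_isPullback g i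
    (LocAcyc24.isIntegral_specOf_quasiFinite i) x' RY' RX' RY RX ((LocAcyc24.specOf_compat g' α).2 hαe)
  letI := γ.toAlgebra
  haveI : IsLocalHom (algebraMap RY RX) := hγ
  haveI : Surjective (Spec.map (CommRingCat.ofHom γ)) := ⟨hg x RY RX hγc⟩
  refine ⟨RX', RY', inferInstance, inferInstance, inferInstance, inferInstance, inferInstance, inferInstance,
    Hens2.specOf (pullback g i) x' RX', Hens2.specOf Y' (g'.base x') RY', Spec.map (CommRingCat.ofHom α), hαe,
    closedPt_specOf x', StrictLim24.nonempty_strictSys (pullback g i) x' RX',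
    StrictLim24.nonempty_strictSys Y' (g'.base x') RY', ?_,
    ((MorphismProperty.of_isPullback sqS ‹Surjective (Spec.map (CommRingCat.ofHom γ))› :
      Surjective (Spec.map (CommRingCat.ofHom α)))).surj⟩
  rw [Scheme.Hom.comp_apply]
  rw [show (default : Spec (CommRingCat.of (ResidueField RX'))) = closedPoint _ from Subsingleton.elim _ _,
    show (default : Spec (CommRingCat.of (ResidueField RY'))) = closedPoint _ from Subsingleton.elim _ _,
    LocAcyc24.map_closedPoint, LocAcyc24.map_closedPoint, LocAcyc24.map_closedPoint]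

variable {Xb Yb : Scheme.{u}} {g : X ⟶ Y} {p : Yb ⟶ Y} {pY : Xb ⟶ X} {hb : Xb ⟶ Yb}
  [QuasiCompact p] [QuasiSeparated p]

/-- Base change in degree zero is monic. -/
theorem SurjLoc.mono_baseChange0 (hg : SurjLoc g) (sq : IsPullback hb pY p g) (J : EtCoh.Ab Yb) :
    Mono (EtCoh.baseChange0 p g pY hb sq.w J) := by
  haveI : QuasiCompact pY := MorphismProperty.of_isPullback sq ‹QuasiCompact p›
  haveI : QuasiSeparated pY := MorphismProperty.of_isPullback sq ‹QuasiSeparated p›
  refine mono_of_points _ fun x => ?_
  obtain ⟨RX, RY, _, _, _, _, _, _, σx, σy, sψ, e, hx, ⟨TX⟩, ⟨TY⟩, hcl, hs⟩ := hg x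
  refine ⟨_, inferInstance, inferInstance, closedPt RX ≫ σx, hx, ?_⟩
  haveI : QuasiCompact (pullback.snd p σy) := MorphismProperty.pullback_snd _ _ ‹_›
  haveI : QuasiSeparated (pullback.snd p σy) := MorphismProperty.pullback_snd _ _ ‹_›
  haveI : CompactSpace ↥(pullback p σy) := QuasiCompact.compactSpace_of_compactSpace (pullback.snd p σy)
  haveI : QuasiSeparatedSpace ↥(pullback p σy) := quasiSeparatedSpace_of_quasiSeparated (pullback.snd p σy)
  haveI : Surjective sψ := ⟨hs⟩
  haveI : Surjective (locMap sq.w e) :=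
    MorphismProperty.of_isPullback (isPullback_locMap e sq).flip ‹Surjective sψ›
  exact (stalk_baseChange0_aux sq.w e TX TY J (bijective_sec_of_local sψ hcl _)
    (injective_sec_top (locMap sq.w e) (locMap sq.w e).surjective _)).1

end Groth.Agent.LocAcycBC6
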