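import Groth.Agent.Lib.LocAcycBC6.Local
import Groth.Agent.Lib.LocAcycBC6.LocBC
import Groth.Agent.Lib.LocAcycBC6.MonoBC
import Groth.Agent.Lib.LocAcycBC6.ConnConst

/-!
# Surjectivity over affine quasi-finite schemes
-/

set_option autoImplicit false
set_option linter.style.haveILetI false
set_option linter.unusedSectionVars false
set_option backward.isDefEq.respectTransparency.types false

universe u

open CategoryTheory CategoryTheory.Limits AlgebraicGeometry Opposite CategoryTheory.Abelian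

namespace Groth.Agent.LocAcycBC6

open Groth.Agent.EtStalk Groth.Agent.EtLim24 Groth.Agent.EtAcyc24

/-- Degree zero classes glue along a partition. -/
theorem exists_glue_H0 {Z : Scheme.{u}} {κ : Type u} (P : κ → (EtCoh.top Z).left.Opens) (hP : ∀ z, ∃! l, z ∈ P l)
    (G : EtCoh.Ab Z) (x : κ → EtCoh.H Z G 0) :
    ∃ e : EtCoh.H Z G 0, ∀ l, EtCore.Hpull (EtSite.sub (EtCoh.top Z) (P l)).hom G 0 (e - x l) = 0 := by
  choose a ha using fun l => (Ext.mk₀_bijective _ _).2 (x l)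
  obtain ⟨t, ht, -⟩ := existsUnique_glue_parts G (EtCoh.top Z) P hP
    (fun l => G.obj.map (EtSite.subHom (EtCoh.top Z) (P l)).op ((a l).hom.app (op (EtCoh.top Z)) (oneSec Z)))
  obtain ⟨c, hc⟩ := exists_hom_one t
  refine ⟨Ext.mk₀ c, fun l => ?_⟩
  let W := EtSite.sub (EtCoh.top Z) (P l)
  haveI : Etale W.hom := W.prop
  have key : ∀ b : EtCoh.const Z ℤ ⟶ G, EtCore.Hpull W.hom G 0 (Ext.mk₀ b) =
      Ext.mk₀ ((EtCore.pullConst W.hom ℤ).inv ≫ (EtCoh.pull W.hom).map b) := fun b => by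
    rw [Hpull_eq, Ext.mapExactFunctor_mk₀, Ext.mk₀_comp_mk₀]
  rw [map_sub, ← ha l, key, key, sub_eq_zero]
  refine congrArg _ (const_hom_ext ?_)
  refine (pull_hom_one_etale W (diag W) c).trans (Eq.trans ?_ (pull_hom_one_etale W (diag W) (a l)).symm)
  refine congrArg (fun z => ((EtCoh.pull W.hom).obj G).obj.map (diag W).op ((uHom W.hom G).hom.app (op W) z)) ?_
  refine (map_terminal (EtCore.topIsTerminal Z) _ (EtSite.subHom (EtCoh.top Z) (P l)) _).trans ?_
  refine ((congrArg _ hc).trans (ht l)).trans ?_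
  exact map_terminal (EtCore.topIsTerminal Z) _ _ _

section Zero

variable {X Z W XW : Scheme.{u}} (g : X ⟶ Z) (p : W ⟶ Z) (hb : XW ⟶ W) (pY : XW ⟶ X) (w : hb ≫ p = pY ≫ g)
  [CompactSpace Z] [QuasiSeparatedSpace Z] (hp : Function.Surjective p.base) (hg : Function.Surjective g.base)

include hp hg in
/-- Degree zero classes in the range after a surjective base change are in the range. -/
theorem mem_range_zero_descent {F : EtCoh.Ab Z} (hbc : Mono (EtCoh.baseChange0 p g pY hb w ((EtCoh.pull p).obj F)))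
    (ξ : EtCoh.H X ((EtCoh.pull g).obj F) 0) (e : EtCoh.H W ((EtCoh.pull p).obj F) 0)
    (he : EtCore.HpullVia pY g (pY ≫ g) rfl F 0 ξ = EtCore.HpullVia hb p (pY ≫ g) w F 0 e) :
    ξ ∈ Set.range (EtCore.Hpull g F 0) := by
  haveI := hbc
  haveI : (EtCoh.pull g).Additive := (EtCoh.pullPushAdj g).left_adjoint_additive
  let J := (EtCoh.pull p).obj F
  haveI := mono_unit_of_surjective p hp F
  let φ := (EtCoh.pullPushAdj p).homEquiv F J (𝟙 J)
  haveI : Mono φ := by
    show Mono ((EtCoh.pullPushAdj p).homEquiv F J (𝟙 J))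
    rw [Adjunction.homEquiv_unit]
    infer_instance
  let S := ShortComplex.mk φ (cokernel.π φ) (cokernel.condition _)
  have hS : S.ShortExact := { exact := ShortComplex.exact_cokernel φ }
  obtain ⟨e', he'⟩ := (HofPush_zero_bijective p J).2 e
  let bc := EtCoh.baseChange0 p g pY hb w J
  have hA : EtLim.HofPush pY _ 0 (ξ.comp (Ext.mk₀ ((EtCoh.pull g).map φ ≫ bc)) (add_zero 0)) =
      EtLim.HofPush pY _ 0 ((EtCore.Hpull g _ 0 e').comp (Ext.mk₀ bc) (add_zero 0)) := by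
    refine Eq.trans ?_ ((HofPush_baseChange0 w J 0 e').trans (congrArg _ he')).symm
    rw [HofPush_mk₀, ← Ext.comp_assoc_of_third_deg_zero, ← Hpull_eq, ← HpullVia_pullT pY g (pY ≫ g) rfl,
      transpose_square g p hb pY w (𝟙 J), he, HpullVia_pullT, CategoryTheory.Functor.map_id, Ext.comp_mk₀_id]
  have h1 : ξ.comp (Ext.mk₀ ((EtCoh.pull g).map φ)) (add_zero 0) = EtCore.Hpull g _ 0 e' := by
    refine sub_eq_zero.1 (eq_zero_of_comp_mono bc _ ?_)
    refine (((Ext.mk₀ bc).postcomp _ (add_zero 0)).map_sub _ _).trans (sub_eq_zero.2 ?_)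
    refine Eq.trans ?_ ((HofPush_zero_bijective pY _).1 hA)
    show Ext.comp _ _ (add_zero 0) = _
    rw [Ext.comp_assoc_of_third_deg_zero, Ext.mk₀_comp_mk₀]
  have h2 : e'.comp (Ext.mk₀ S.g) (add_zero 0) = 0 := by
    refine injective_Hpull_zero g hg _ ?_
    rw [map_zero, ← LocAcyc24.Hpull_nat, ← h1, Ext.comp_assoc_of_third_deg_zero, Ext.mk₀_comp_mk₀,
      ← Functor.map_comp, S.zero, Functor.map_zero, Ext.mk₀_zero, Ext.comp_zero]
  obtain ⟨c, hc⟩ := Ext.covariant_sequence_exact₂ _ hS e' h2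
  refine ⟨c, sub_eq_zero.1 ?_⟩
  haveI : Mono ((EtCoh.pull g).map φ) := (hS.map_of_exact (EtCoh.pull g)).mono_f
  refine eq_zero_of_comp_mono ((EtCoh.pull g).map φ) _ ?_
  refine (((Ext.mk₀ ((EtCoh.pull g).map φ)).postcomp _ (add_zero 0)).map_sub (EtCore.Hpull g F 0 c) ξ).trans ?_
  show (EtCore.Hpull g F 0 c).comp (Ext.mk₀ ((EtCoh.pull g).map φ)) (add_zero 0) -
    ξ.comp (Ext.mk₀ ((EtCoh.pull g).map φ)) (add_zero 0) = 0
  rw [LocAcyc24.Hpull_nat, h1, sub_eq_zero]
  exact congrArg _ hc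

end Zero

variable {X Z : Scheme.{u}} (g : X ⟶ Z) [IsAffine Z] [QuasiCompact g] [QuasiSeparated g] {L : Set ℕ}

/-- Positive degree classes vanishing on the geometric fibres come from an affine base. -/
theorem mem_range_affine {m : ℕ} (hloc : LocBC g L m) (hc : EtAcyc.CompN g L m) {F : EtCoh.Ab Z}
    (hF : EtAcyc.IsLTorsion L F) (ξ : EtCoh.H X ((EtCoh.pull g).obj F) (m + 1))
    (h : ∀ (v : Z) (Ω : Type u) [Field Ω] [IsSepClosed Ω] [Algebra (Z.residueField v) Ω]
      [Algebra.IsAlgebraic (Z.residueField v) Ω],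
      EtCore.Hpull (pullback.fst g (EtAcyc.geomPt Z v Ω)) _ (m + 1) ξ = 0) :
    ξ ∈ Set.range (EtCore.Hpull g F (m + 1)) := by
  obtain ⟨t, T, p, hT, hlqf, hlfp, hsurj, hz⟩ := exists_cover_Hpull_eq_zero g Z (𝟙 Z) _ (m + 1) ξ
    fun v Ω _ _ _ _ => by rw [Category.comp_id]; exact h v Ω
  let pT : ∐ T ⟶ Z := Sigma.desc p
  haveI : LocallyQuasiFinite pT := IsZariskiLocalAtSource.sigmaDesc hlqf
  haveI : LocallyOfFinitePresentation pT := IsZariskiLocalAtSource.sigmaDesc hlfp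
  haveI : IsAffine (∐ T) := inferInstance
  have hp : Function.Surjective pT.base := fun v => by
    obtain ⟨w, a, ha⟩ := hsurj v
    exact ⟨(Sigma.ι T w).base a, (congrArg (fun φ : T w ⟶ Z => φ.base a) (Sigma.ι_desc p w)).trans ha⟩
  have hξ : EtCore.Hpull (pullback.fst g pT) _ (m + 1) ξ = 0 :=
    Hpull_fst_sigma_eq_zero g T (fun w => p w ≫ 𝟙 Z) pT
      (fun w => (Sigma.ι_desc _ _).trans (Category.comp_id _).symm) _ _ ξ hz
  have sq : IsPullback (pullback.snd g pT) (pullback.fst g pT) pT g := (IsPullback.of_hasPullback g pT).flip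
  haveI : QuasiCompact (pullback.snd g pT) := MorphismProperty.pullback_snd _ _ ‹_›
  haveI : QuasiSeparated (pullback.snd g pT) := MorphismProperty.pullback_snd _ _ ‹_›
  haveI : CompactSpace X := QuasiCompact.compactSpace_of_compactSpace g
  haveI : QuasiSeparatedSpace X := quasiSeparatedSpace_of_quasiSeparated g
  haveI : CompactSpace ↥(pullback g pT) := QuasiCompact.compactSpace_of_compactSpace (pullback.snd g pT)
  haveI : QuasiSeparatedSpace ↥(pullback g pT) := quasiSeparatedSpace_of_quasiSeparated (pullback.snd g pT)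
  exact (mem_range_iff_after_base_change g pT (pullback.snd g pT) (pullback.fst g pT) sq.w hp L m hc
    (fun _ hJ => hloc.isIso_baseChange0 sq hJ) (fun _ hJ k hk hz => hloc.isZero_Rpush sq hJ k hk hz) hF ξ).2
    ⟨0, (map_zero _).trans (HpullVia_eq_zero _ _ _ _ _ hξ).symm⟩

set_option maxHeartbeats 1000000 in
/-- Degree zero classes of constant sheaves come from an affine base when the fibres are connected. -/
theorem surjective_Hpull_affine_zero (hloc : SurjLoc g) (hg : Function.Surjective g.base) (N : ℕ)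
    (hconn : ∀ v : Z, ConnectedSpace ↥(pullback g (EtAcyc.geomPt Z v (AlgebraicClosure (Z.residueField v))))) :
    Function.Surjective (EtCore.Hpull g (EtCoh.const Z (ZMod N)) 0) := by
  intro ξ
  let F := EtCoh.const Z (ZMod N)
  let G := (EtCoh.pull g).obj F
  have hfib : ∀ v : Z, ∃ c : EtCoh.H Z F 0, EtCore.Hpull
      (pullback.fst g (EtAcyc.geomPt Z v (AlgebraicClosure (Z.residueField v)) ≫ 𝟙 Z)) G 0
      (ξ - EtCore.Hpull g F 0 c) = 0 := fun v => by
    rw [Category.comp_id]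
    haveI := hconn v
    let f := pullback.fst g (EtAcyc.geomPt Z v (AlgebraicClosure (Z.residueField v)))
    obtain ⟨c, hc⟩ := surjective_Hpull_const_zero _ (ZMod N) (f ≫ g) (EtCore.HpullVia f g (f ≫ g) rfl F 0 ξ)
    refine ⟨c, eq_zero_of_HpullVia f g (f ≫ g) rfl F 0 _ ?_⟩
    rw [map_sub, HpullVia_Hpull, hc, sub_self]
  choose c hc using hfib
  obtain ⟨t, T, p, hT, hlqf, hlfp, hsurj, hz⟩ := exists_cover_Hpull_eq_zero' g Z (𝟙 Z) G 0
    (fun v => ξ - EtCore.Hpull g F 0 (c v)) hc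
  let pT : ∐ T ⟶ Z := Sigma.desc p
  haveI : LocallyQuasiFinite pT := IsZariskiLocalAtSource.sigmaDesc hlqf
  haveI : LocallyOfFinitePresentation pT := IsZariskiLocalAtSource.sigmaDesc hlfp
  haveI : IsAffine (∐ T) := inferInstance
  have hp : Function.Surjective pT.base := fun v => by
    obtain ⟨w, a, ha⟩ := hsurj v
    exact ⟨(Sigma.ι T w).base a, (congrArg (fun φ : T w ⟶ Z => φ.base a) (Sigma.ι_desc p w)).trans ha⟩
  have sq : IsPullback (pullback.snd g pT) (pullback.fst g pT) pT g := (IsPullback.of_hasPullback g pT).flip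
  let P : t → (EtCoh.top (∐ T)).left.Opens := fun l => (Sigma.ι T l).opensRange
  have hP : ∀ z, ∃! l, z ∈ P l := fun z => by
    obtain ⟨l, a, ha⟩ := (sigmaOpenCover T).exists_eq z
    refine ⟨l, ⟨a, ha⟩, fun l' hl' => by_contra fun hne => ?_⟩
    exact Set.disjoint_left.1 (TopologicalSpace.Opens.coe_disjoint.2 (disjoint_opensRange_sigmaι T l' l hne)) hl' ⟨a, ha⟩
  obtain ⟨e, he⟩ := exists_glue_H0 P hP ((EtCoh.pull pT).obj F) fun l => EtCore.Hpull pT F 0 (c l)
  let hb := pullback.snd g pT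
  let pY := pullback.fst g pT
  refine mem_range_zero_descent g pT hb pY sq.w hp hg
    (hloc.mono_baseChange0 sq _) ξ e ?_
  let Q : t → (EtCoh.top (pullback g pT)).left.Opens := fun l => hb ⁻¹ᵁ (Sigma.ι T l).opensRange
  refine sub_eq_zero.1 (eq_zero_of_partition Q (fun z => hP (hb.base z)) 0 _ _ fun l => ?_)
  let U := EtSite.sub (EtCoh.top (pullback g pT)) (Q l)
  let W := EtSite.sub (EtCoh.top (∐ T)) (P l)
  have eq1 : EtCore.HpullVia pY g (pY ≫ g) rfl F 0 ξ - EtCore.HpullVia hb pT (pY ≫ g) sq.w F 0 e =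
      EtCore.HpullVia pY g (pY ≫ g) rfl F 0 (ξ - EtCore.Hpull g F 0 (c l)) -
        EtCore.HpullVia hb pT (pY ≫ g) sq.w F 0 (e - EtCore.Hpull pT F 0 (c l)) := by
    rw [map_sub, map_sub, HpullVia_Hpull, HpullVia_Hpull]
    abel
  rw [eq1, map_sub]
  let s : U.left ⟶ T l := IsOpenImmersion.lift (Sigma.ι T l) (U.hom ≫ hb) (by
    rintro _ ⟨u, rfl⟩
    exact u.2)
  have hs : s ≫ Sigma.ι T l = U.hom ≫ hb := IsOpenImmersion.lift_fac _ _ _
  let d : U.left ⟶ pullback g (p l ≫ 𝟙 Z) := pullback.lift (U.hom ≫ pY) s (by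
    rw [Category.comp_id, Category.assoc, show p l = Sigma.ι T l ≫ pT from (Sigma.ι_desc p l).symm,
      ← Category.assoc s, hs, Category.assoc, pullback.condition])
  haveI : IsOpenImmersion W.hom := by
    show IsOpenImmersion ((P l).ι ≫ (EtCoh.top (∐ T)).hom)
    haveI : IsIso (EtCoh.top (∐ T)).hom := show IsIso (𝟙 (∐ T)) from inferInstance
    exact inferInstance
  let s' : U.left ⟶ W.left := IsOpenImmersion.lift W.hom (U.hom ≫ hb) (by
    rintro _ ⟨u, rfl⟩
    exact ⟨⟨(U.hom ≫ hb).base u, u.2⟩, rfl⟩)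
  haveI : Etale W.hom := W.prop
  have h1 : EtCore.Hpull U.hom _ 0 (EtCore.HpullVia pY g (pY ≫ g) rfl F 0 (ξ - EtCore.Hpull g F 0 (c l))) = 0 := by
    refine (Hpull_comp_iso_eq_zero_iff U.hom (((EtCore.pullComp pY g).symm ≪≫ EtCore.pullCongr rfl).app F) 0
      (EtCore.Hpull pY _ 0 (ξ - EtCore.Hpull g F 0 (c l)))).2 ?_
    refine (Hpull_comp_eq_zero_iff U.hom pY _ rfl G 0 _).1 ?_
    refine (Hpull_comp_eq_zero_iff d (pullback.fst g (p l ≫ 𝟙 Z)) _ (pullback.lift_fst _ _ _) G 0 _).2 ?_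
    rw [hz l, map_zero]
  have h2 : EtCore.Hpull U.hom _ 0 (EtCore.HpullVia hb pT (pY ≫ g) sq.w F 0 (e - EtCore.Hpull pT F 0 (c l))) = 0 := by
    refine (Hpull_comp_iso_eq_zero_iff U.hom (((EtCore.pullComp hb pT).symm ≪≫ EtCore.pullCongr sq.w).app F) 0
      (EtCore.Hpull hb _ 0 (e - EtCore.Hpull pT F 0 (c l)))).2 ?_
    refine (Hpull_comp_eq_zero_iff U.hom hb _ rfl _ 0 _).1 ?_
    refine (Hpull_comp_eq_zero_iff s' W.hom _ (IsOpenImmersion.lift_fac _ _ _) _ 0 _).2 ?_
    rw [he l, map_zero]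
  rw [h1, h2, sub_zero]

end Groth.Agent.LocAcycBC6
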