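import Groth.Agent.Lib.EtAcyc24.Criterion
import Groth.Agent.Lib.EtAcyc24.LqfCriterion

/-!
# Classes vanishing locally on the target come from the direct image
-/

set_option autoImplicit false
set_option linter.style.haveILetI false
set_option backward.isDefEq.respectTransparency.types false

universe u

open CategoryTheory CategoryTheory.Limits AlgebraicGeometry Opposite CategoryTheory.Abelian

namespace Groth.Agent.LocAcycBC6

open Groth.Agent.EtStalk Groth.Agent.EtAcyc24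

variable {X Y : Scheme.{u}}

/-- A pulled back global section, on the unit section. -/
lemma pull_hom_one (f : X ⟶ Y) {F : EtCoh.Ab Y} (a : EtCoh.const Y ℤ ⟶ F) :
    ((EtCore.pullConst f ℤ).inv ≫ (EtCoh.pull f).map a).hom.app (op (EtCoh.top X)) (oneSec X) =
      ((EtCoh.pull f).obj F).obj.map (EtCore.bcTopIso f).inv.op
        ((uHom f F).hom.app (op (EtCoh.top Y)) (a.hom.app _ (oneSec Y))) := by
  show ((EtCoh.pull f).map a).hom.app _ ((EtCore.pullConst f ℤ).inv.hom.app _ (oneSec X)) = _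
  rw [pullConst_inv_one f]
  refine (NatTrans.naturality_apply ((EtCoh.pull f).map a).hom (EtCore.bcTopIso f).inv.op _).trans ?_
  exact congrArg _ (congrArg (fun t : EtCoh.const Y ℤ ⟶ (EtCoh.push f).obj ((EtCoh.pull f).obj F) =>
    t.hom.app (op (EtCoh.top Y)) (oneSec Y)) ((EtCoh.pullPushAdj f).unit.naturality a)).symm

/-- The transpose of a global section, on the unit section. -/
lemma transpose_one (f : X ⟶ Y) {Q : EtCoh.Ab X} (a : EtCoh.const Y ℤ ⟶ (EtCoh.push f).obj Q) :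
    ((EtCore.pullConst f ℤ).inv ≫ ((EtCoh.pullPushAdj f).homEquiv _ _).symm a).hom.app
        (op (EtCoh.top X)) (oneSec X) =
      Q.obj.map (EtCore.bcTopIso f).inv.op (a.hom.app (op (EtCoh.top Y)) (oneSec Y)) := by
  conv_rhs => rw [← ((EtCoh.pullPushAdj f).homEquiv _ _).apply_symm_apply a, Adjunction.homEquiv_unit]
  generalize ((EtCoh.pullPushAdj f).homEquiv _ _).symm a = φ
  show φ.hom.app _ ((EtCore.pullConst f ℤ).inv.hom.app _ (oneSec X)) = _
  rw [pullConst_inv_one f]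
  exact NatTrans.naturality_apply φ.hom (EtCore.bcTopIso f).inv.op _

/-- An embedding into an injective sheaf. -/
theorem exists_inj_ses (G : EtCoh.Ab X) :
    ∃ (I Q : EtCoh.Ab X) (i : G ⟶ I) (q : I ⟶ Q) (w : i ≫ q = 0), (ShortComplex.mk i q w).ShortExact ∧ Injective I :=
  ⟨_, _, Injective.ι G, cokernel.π (Injective.ι G), cokernel.condition _,
    { exact := ShortComplex.exact_cokernel (Injective.ι G) }, inferInstance⟩

/-- A section whose obstruction dies on an étale scheme lifts there. -/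
theorem exists_lift_of_Hpull_eq_zero {S : ShortComplex (EtCoh.Ab X)} (hS : S.ShortExact) (W : X.Etale)
    (a : EtCoh.const X ℤ ⟶ S.X₃)
    (h : EtCore.Hpull W.hom S.X₁ 1 ((Ext.mk₀ a).comp hS.extClass rfl) = 0) :
    ∃ y : S.X₂.obj.obj (op W), S.g.hom.app (op W) y =
      S.X₃.obj.map ((EtCore.topIsTerminal X).from W).op (a.hom.app (op (EtCoh.top X)) (oneSec X)) := by
  haveI : Etale W.hom := W.prop
  haveI : (EtCoh.pull W.hom).Additive := (EtCoh.pullPushAdj W.hom).left_adjoint_additive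
  rw [Hpull_delta] at h
  obtain ⟨z, hz⟩ := Ext.covariant_sequence_exact₃ _ (hS.map_of_exact (EtCoh.pull W.hom)) _ rfl h
  obtain ⟨c, rfl⟩ := (Ext.mk₀_bijective _ _).2 z
  rw [Hpull_eq, Ext.mapExactFunctor_mk₀, Ext.mk₀_comp_mk₀] at hz
  erw [Ext.mk₀_comp_mk₀] at hz
  have e : c ≫ (EtCoh.pull W.hom).map S.g = (EtCore.pullConst W.hom ℤ).inv ≫ (EtCoh.pull W.hom).map a :=
    (Ext.mk₀_bijective _ _).1 hz
  let d : EtCoh.top W.left ⟶ (EtCoh.bc W.hom).obj W :=
    MorphismProperty.Over.homMk (pullback.lift (𝟙 _) (𝟙 _) rfl) (pullback.lift_snd _ _ _)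
  have hd : IsIso (d.left ≫ bcFst W.hom W) := by
    rw [show d.left ≫ bcFst W.hom W = 𝟙 _ from pullback.lift_fst _ _ _]
    exact inferInstanceAs (IsIso (𝟙 W.left))
  obtain ⟨y, hy⟩ := (bijective_map_unit W.hom S.X₂ d hd).2 (c.hom.app (op (EtCoh.top W.left)) (oneSec W.left))
  refine ⟨y, (bijective_map_unit W.hom S.X₃ d hd).1 ?_⟩
  dsimp only
  have h1 : ((EtCoh.pull W.hom).obj S.X₃).obj.map d.op ((uHom W.hom S.X₃).hom.app (op W) (S.g.hom.app (op W) y)) =
      ((EtCoh.pull W.hom).map S.g).hom.app (op (EtCoh.top W.left))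
        (((EtCoh.pull W.hom).obj S.X₂).obj.map d.op ((uHom W.hom S.X₂).hom.app (op W) y)) := by
    refine Eq.trans ?_ (NatTrans.naturality_apply ((EtCoh.pull W.hom).map S.g).hom d.op _).symm
    exact congrArg _ (congrArg (fun t : S.X₂ ⟶ (EtCoh.push W.hom).obj ((EtCoh.pull W.hom).obj S.X₃) =>
      t.hom.app (op W) y) ((EtCoh.pullPushAdj W.hom).unit.naturality S.g))
  refine h1.trans ((congrArg _ hy).trans ?_)
  refine ((congrArg (fun t : EtCoh.const W.left ℤ ⟶ (EtCoh.pull W.hom).obj S.X₃ =>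
    t.hom.app (op (EtCoh.top W.left)) (oneSec W.left)) e).trans (pull_hom_one W.hom a)).trans ?_
  refine Eq.trans ?_ (congrArg _ (NatTrans.naturality_apply (uHom W.hom S.X₃).hom
    ((EtCore.topIsTerminal X).from W).op _).symm)
  refine Eq.trans ?_ (map_comp_apply_op _ d ((EtCoh.bc W.hom).map ((EtCore.topIsTerminal X).from W)) _)
  exact map_terminal (EtCore.bcTopIsTerminal W.hom) _ _ _

variable (f : X ⟶ Y)

/-- Degree one. -/
theorem mem_range_one (G : EtCoh.Ab X) (ξ : EtCoh.H X G 1)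
    (hloc : ∀ y : Y, ∃ V : Y.Etale, y ∈ Set.range V.hom ∧ EtCore.Hpull ((EtCoh.bc f).obj V).hom G 1 ξ = 0) :
    ξ ∈ Set.range (EtLim.HofPush f G 1) := by
  obtain ⟨I, Q, i, q, wiq, hS, hI⟩ := exists_inj_ses G
  let S := ShortComplex.mk i q wiq
  haveI : Injective S.X₂ := hI
  obtain ⟨s, rfl⟩ := Ext.covariant_sequence_exact₁ _ hS ξ (Ext.eq_zero_of_injective _) (n₀ := 0) rfl
  obtain ⟨v, rfl⟩ := (HofPush_zero_bijective f S.X₃).2 s
  obtain ⟨a, rfl⟩ := (Ext.mk₀_bijective _ _).2 v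
  obtain ⟨K, p, k, w, hS', hk, hpk, hδ⟩ := exists_image_data f hS
  let a' := (EtCore.pullConst f ℤ).inv ≫ ((EtCoh.pullPushAdj f).homEquiv _ _).symm a
  have hval : EtLim.HofPush f S.X₃ 0 (Ext.mk₀ a) = Ext.mk₀ a' := by
    rw [HofPush_apply, Ext.mapExactFunctor_mk₀, Ext.mk₀_comp_mk₀, Ext.mk₀_comp_mk₀]
    simp only [a', Adjunction.homEquiv_counit, Category.assoc]
  have h0 : a ≫ cokernel.π k = 0 := by
    refine const_hom_ext (eq_of_agree (cokernel k) fun y => ?_)
    obtain ⟨V, ⟨v, hv⟩, hξ⟩ := hloc y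
    let g : V ⟶ EtCoh.top Y := (EtCore.topIsTerminal Y).from V
    refine ⟨V, g, ⟨v, ?_⟩, ?_⟩
    · exact (congrArg (fun φ : V.left ⟶ Y => φ v) ((Category.comp_id _).symm.trans (MorphismProperty.Over.w g))).trans hv
    rw [hval] at hξ
    obtain ⟨z, hz⟩ := exists_lift_of_Hpull_eq_zero hS ((EtCoh.bc f).obj V) a' hξ
    have e1 : ((EtCoh.push f).map S.g).hom.app (op V) z =
        ((EtCoh.push f).obj S.X₃).obj.map g.op (a.hom.app (op (EtCoh.top Y)) (oneSec Y)) := by
      refine hz.trans ?_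
      rw [transpose_one f a, ← map_comp_apply_op]
      exact map_terminal (EtCore.bcTopIsTerminal f) _ ((EtCoh.bc f).map g) _
    have e2 : (cokernel.π k).hom.app (op V) (((EtCoh.push f).map S.g).hom.app (op V) z) = 0 := by
      rw [← hpk]
      exact (congrArg (fun φ : K ⟶ cokernel k => φ.hom.app (op V) (p.hom.app (op V) z)) (cokernel.condition k)).trans rfl
    refine ((NatTrans.naturality_apply (cokernel.π k).hom g.op _).symm.trans
      ((congrArg _ e1.symm).trans e2)).trans ?_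
    exact (map_zero (ConcreteCategory.hom ((cokernel k).obj.map g.op))).symm
  let c := Abelian.monoLift k a h0
  refine ⟨(Ext.mk₀ c).comp hS'.extClass rfl, (hδ 0 _).trans ?_⟩
  rw [Ext.mk₀_comp_mk₀, Abelian.monoLift_comp]

/-- The obstruction class detects vanishing on étale schemes. -/
theorem Hpull_eq_zero_of_injective {S : ShortComplex (EtCoh.Ab X)} (hS : S.ShortExact) [Injective S.X₂]
    (W : X.Etale) {m : ℕ} (ζ : EtCoh.H X S.X₃ (m + 1))
    (h : EtCore.Hpull W.hom S.X₁ (m + 1 + 1) (ζ.comp hS.extClass rfl) = 0) :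
    EtCore.Hpull W.hom S.X₃ (m + 1) ζ = 0 := by
  haveI : Etale W.hom := W.prop
  haveI : (EtCoh.pull W.hom).Additive := (EtCoh.pullPushAdj W.hom).left_adjoint_additive
  obtain ⟨z, hz⟩ := Ext.covariant_sequence_exact₃ _ (hS.map_of_exact (EtCoh.pull W.hom)) _ rfl
    ((Hpull_delta W.hom hS ζ).symm.trans h)
  haveI : Injective (S.map (EtCoh.pull W.hom)).X₂ := injective_pull W.hom S.X₂
  rw [Ext.eq_zero_of_injective z, Ext.zero_comp] at hz
  exact hz.symm

set_option maxHeartbeats 800000 in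
/-- Classes vanishing locally on the target come from the direct image when the lower higher direct
images vanish. -/
theorem mem_range_HofPush_of_locally_zero (m : ℕ) : ∀ (G : EtCoh.Ab X),
    (∀ p : ℕ, 1 ≤ p → p ≤ m → IsZero ((EtCoh.Rpush f p).obj G)) → ∀ ξ : EtCoh.H X G (m + 1),
      (∀ y : Y, ∃ V : Y.Etale, y ∈ Set.range V.hom ∧ EtCore.Hpull ((EtCoh.bc f).obj V).hom G (m + 1) ξ = 0) →
      ξ ∈ Set.range (EtLim.HofPush f G (m + 1)) := by
  induction m with
  | zero => exact fun G _ ξ hloc => mem_range_one f G ξ hloc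
  | succ m ih =>
    intro G hR ξ hloc
    obtain ⟨I, Q, i, q, wiq, hS, hI⟩ := exists_inj_ses G
    let S := ShortComplex.mk i q wiq
    haveI : Injective S.X₂ := hI
    have hS' := shortExact_push_of_acyclic f hS (hR 1 le_rfl (by lia))
    obtain ⟨ζ, rfl⟩ := Ext.covariant_sequence_exact₁ _ hS ξ (Ext.eq_zero_of_injective _) (n₀ := m + 1) rfl
    obtain ⟨x, rfl⟩ := ih S.X₃
      (fun p hp hpm => isZero_Rpush_cokernel f hS p hp (hR (p + 1) (by lia) (by lia))) ζ fun y =>
        (hloc y).imp fun V hV => ⟨hV.1, Hpull_eq_zero_of_injective hS ((EtCoh.bc f).obj V) ζ hV.2⟩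
    exact ⟨x.comp hS'.extClass rfl, HofPush_extClass f hS hS' _ x⟩

/-- Classes vanishing locally on the target come from the target. -/
theorem mem_range_Hpull_of_locally_zero {L : Set ℕ} (m : ℕ) (hf : EtAcyc.IsAcyclicN f L m) {F : EtCoh.Ab Y}
    (hF : EtAcyc.IsLTorsion L F) (ξ : EtCoh.H X ((EtCoh.pull f).obj F) (m + 1))
    (hloc : ∀ y : Y, ∃ V : Y.Etale, y ∈ Set.range V.hom ∧
      EtCore.Hpull ((EtCoh.bc f).obj V).hom ((EtCoh.pull f).obj F) (m + 1) ξ = 0) :
    ξ ∈ Set.range (EtCore.Hpull f F (m + 1)) := by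
  haveI := isIso_unit_of_compN f L m hf F hF
  obtain ⟨x, rfl⟩ := mem_range_HofPush_of_locally_zero f m _
    (fun p hp hpm => isZero_Rpush_of_compN f L m hf F hF p hp hpm) ξ hloc
  obtain ⟨x', rfl⟩ := (bijective_comp_iso (asIso (uHom f F)) (m + 1)).2 x
  exact ⟨x', (FieldH25.HofPush_unit f F (m + 1) x').symm⟩

end Groth.Agent.LocAcycBC6
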