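import Groth.Agent.Lib.LocAcyc24.Integral
import Groth.Prelude.Def_EtAcyc

/-! # Properties of strict localisations restrict to open subschemes -/

set_option autoImplicit false
set_option linter.style.haveILetI false
set_option backward.isDefEq.respectTransparency.types false

universe u

open CategoryTheory AlgebraicGeometry IsLocalRing

namespace Groth.Agent.LocAcycBC6

/-- Strict localisations of a restriction to open subschemes are strict localisations. -/
theorem onStrictLocalizations_openRestr (P : ∀ ⦃X' Y' : Scheme.{u}⦄, (X' ⟶ Y') → Prop)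
    {X Y X' Y' : Scheme.{u}} (g : X ⟶ Y) (g' : X' ⟶ Y') (b : X' ⟶ X) (j : Y' ⟶ Y) [IsOpenImmersion b]
    [IsOpenImmersion j] (w : g' ≫ j = b ≫ g) (H : EtAcyc.OnStrictLocalizations g P) :
    EtAcyc.OnStrictLocalizations g' P := by
  intro x RY RX _ _ _ _ _ _ _ _ _ _ _ _ hc
  have hpt : g.base (b.base x) = j.base (g'.base x) := by
    rw [← Scheme.Hom.comp_apply, ← w, Scheme.Hom.comp_apply]
  let eY : Y.presheaf.stalk (g.base (b.base x)) ≅ Y'.presheaf.stalk (g'.base x) :=
    Y.presheaf.stalkCongr (.of_eq hpt) ≪≫ asIso (j.stalkMap (g'.base x))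
  let eX : X.presheaf.stalk (b.base x) ≅ X'.presheaf.stalk x := asIso (b.stalkMap x)
  have key : eY.hom ≫ g'.stalkMap x = g.stalkMap (b.base x) ≫ eX.hom := by
    have e := Scheme.Hom.stalkMap_congr_hom (b ≫ g) (g' ≫ j) w.symm x
    rw [Scheme.Hom.stalkMap_comp, Scheme.Hom.stalkMap_comp] at e
    exact (Category.assoc _ _ _).trans e.symm
  letI aY : Algebra (Y.presheaf.stalk (g.base (b.base x))) RY :=
    ((algebraMap (Y'.presheaf.stalk (g'.base x)) RY).comp eY.hom.hom).toAlgebra
  letI aX : Algebra (X.presheaf.stalk (b.base x)) RX :=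
    ((algebraMap (X'.presheaf.stalk x) RX).comp eX.hom.hom).toAlgebra
  haveI : IsLocalHom (algebraMap (Y.presheaf.stalk (g.base (b.base x))) RY) :=
    @RingHom.isLocalHom_comp _ _ _ _ _ _ _ _ ‹_› (isLocalHom_of_isIso eY.hom)
  haveI : IsLocalHom (algebraMap (X.presheaf.stalk (b.base x)) RX) :=
    @RingHom.isLocalHom_comp _ _ _ _ _ _ _ _ ‹_› (isLocalHom_of_isIso eX.hom)
  haveI : Hensel.IsStrictHenselization (Y.presheaf.stalk (g.base (b.base x))) RY :=
    LocAcyc24.isStrictHenselization_of_ringEquiv eY.commRingCatIsoToRingEquiv fun _ => rfl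
  haveI : Hensel.IsStrictHenselization (X.presheaf.stalk (b.base x)) RX :=
    LocAcyc24.isStrictHenselization_of_ringEquiv eX.commRingCatIsoToRingEquiv fun _ => rfl
  refine H (b.base x) RY RX ?_
  refine ((RingHom.comp_assoc _ _ _).symm.trans (congrArg (RingHom.comp · eY.hom.hom) hc)).trans ?_
  refine (RingHom.comp_assoc _ _ _).trans ?_
  refine Eq.trans (congrArg ((algebraMap (X'.presheaf.stalk x) RX).comp) (congrArg CommRingCat.Hom.hom key)) ?_
  rfl

end Groth.Agent.LocAcycBC6
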