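import Groth.Agent.Lib.LocAcycBC6.Range
import Groth.Agent.Lib.LocAcycBC6.Fibre
import Groth.Agent.Lib.LocAcycBC6.OpenRestr
import Groth.Agent.Lib.LocAcycBC6.Vanish

/-!
# Classes vanishing on the geometric fibres come from the base
-/

set_option autoImplicit false
set_option linter.style.haveILetI false
set_option backward.isDefEq.respectTransparency.types false

universe u

open CategoryTheory CategoryTheory.Limits AlgebraicGeometry Opposite CategoryTheory.Abelian

namespace Groth.Agent.LocAcycBC6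

open Groth.Agent.EtStalk Groth.Agent.EtAcyc24

/-- An algebraic geometric point of an open subscheme is one of the scheme. -/
theorem exists_geomPt_comp {V Y : Scheme.{u}} (j : V ⟶ Y) [IsOpenImmersion j] (v : V) (Ω : Type u) [Field Ω]
    [Algebra (V.residueField v) Ω] [Algebra.IsAlgebraic (V.residueField v) Ω] :
    ∃ (_ : Algebra (Y.residueField (j.base v)) Ω) (_ : Algebra.IsAlgebraic (Y.residueField (j.base v)) Ω),
      EtAcyc.geomPt Y (j.base v) Ω = EtAcyc.geomPt V v Ω ≫ j := by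
  letI : Algebra (Y.residueField (j.base v)) Ω :=
    ((algebraMap (V.residueField v) Ω).comp (j.residueFieldMap v).hom).toAlgebra
  letI : Algebra (Y.residueField (j.base v)) (V.residueField v) := (j.residueFieldMap v).hom.toAlgebra
  haveI : IsScalarTower (Y.residueField (j.base v)) (V.residueField v) Ω := IsScalarTower.of_algebraMap_eq' rfl
  haveI : Algebra.IsAlgebraic (Y.residueField (j.base v)) (V.residueField v) := ⟨fun z => by
    obtain ⟨a, rfl⟩ : ∃ a, algebraMap (Y.residueField (j.base v)) (V.residueField v) a = z :=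
      ((ConcreteCategory.bijective_of_isIso (j.residueFieldMap v)).2 z)
    exact isAlgebraic_algebraMap a⟩
  refine ⟨inferInstance, Algebra.IsAlgebraic.trans _ (V.residueField v) Ω, ?_⟩
  show Spec.map (j.residueFieldMap v ≫ CommRingCat.ofHom (algebraMap (V.residueField v) Ω)) ≫ _ = _
  rw [Spec.map_comp, Category.assoc, Scheme.Hom.SpecMap_residueFieldMap_fromSpecResidueField]
  exact (Category.assoc _ _ _).symm

/-- A class killed on finitely many pieces is killed on their disjoint union. -/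
theorem Hpull_fst_sigma_eq_zero {X Y : Scheme.{u}} (g : X ⟶ Y) {κ : Type u} (T : κ → Scheme.{u})
    (p : ∀ l, T l ⟶ Y) (q : ∐ T ⟶ Y) (hq : ∀ l, Sigma.ι T l ≫ q = p l) (G : EtCoh.Ab X) (n : ℕ)
    (ξ : EtCoh.H X G n) (h : ∀ l, EtCore.Hpull (pullback.fst g (p l)) G n ξ = 0) :
    EtCore.Hpull (pullback.fst g q) G n ξ = 0 := by
  let P : κ → (EtCoh.top (pullback g q)).left.Opens := fun l => pullback.snd g q ⁻¹ᵁ (Sigma.ι T l).opensRange
  refine eq_zero_of_partition P (fun z => ?_) n _ _ fun l => ?_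
  · obtain ⟨l, t, ht⟩ := (sigmaOpenCover T).exists_eq ((pullback.snd g q).base z)
    refine ⟨l, ⟨t, ht⟩, fun l' hl' => by_contra fun hne => ?_⟩
    exact Set.disjoint_left.1 (TopologicalSpace.Opens.coe_disjoint.2 (disjoint_opensRange_sigmaι T l' l hne)) hl' ⟨t, ht⟩
  let W := EtSite.sub (EtCoh.top (pullback g q)) (P l)
  refine (Hpull_comp_eq_zero_iff W.hom (pullback.fst g q) _ rfl G n ξ).1 ?_
  let s : W.left ⟶ T l := IsOpenImmersion.lift (Sigma.ι T l) (W.hom ≫ pullback.snd g q) (by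
    rintro _ ⟨w, rfl⟩
    exact w.2)
  have hs : s ≫ Sigma.ι T l = W.hom ≫ pullback.snd g q := IsOpenImmersion.lift_fac _ _ _
  let c : W.left ⟶ pullback g (p l) := pullback.lift (W.hom ≫ pullback.fst g q) s (by
    rw [← hq l, ← Category.assoc s, hs, Category.assoc, Category.assoc, pullback.condition])
  refine (Hpull_comp_eq_zero_iff c (pullback.fst g (p l)) _ (pullback.lift_fst _ _ _) G n ξ).2 ?_
  rw [h l, map_zero]

/-- Relative pullback of a class with vanishing pullback. -/
theorem HpullVia_eq_zero {A B C : Scheme.{u}} (f : A ⟶ B) (t : B ⟶ C) (G : EtCoh.Ab C) (n : ℕ)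
    (x : EtCoh.H B ((EtCoh.pull t).obj G) n) (h : EtCore.Hpull f _ n x = 0) :
    EtCore.HpullVia f t (f ≫ t) rfl G n x = 0 := by
  show (EtCore.Hpull f _ n x).comp (Ext.mk₀ (((EtCore.pullComp f t).symm ≪≫ EtCore.pullCongr rfl).app G).hom)
    (add_zero n) = 0
  rw [h, Ext.zero_comp]

variable {X Y : Scheme.{u}} (g : X ⟶ Y) [QuasiCompact g] [QuasiSeparated g]

set_option maxHeartbeats 1000000 in
/-- Over an affine open, a class vanishing on geometric fibres comes from the open. -/
theorem mem_range_open {V : Scheme.{u}} [IsAffine V] (j : V ⟶ Y) [IsOpenImmersion j] {L : Set ℕ} {m : ℕ}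
    (hc : EtAcyc.CompN (pullback.fst j g) L m) (hloc : EtAcyc.IsLocAcyclicN g L m) {F : EtCoh.Ab Y}
    (hF : EtAcyc.IsLTorsion L F) (ξ : EtCoh.H X ((EtCoh.pull g).obj F) (m + 1))
    (h : ∀ (v : V) (Ω : Type u) [Field Ω] [IsSepClosed Ω] [Algebra (V.residueField v) Ω]
      [Algebra.IsAlgebraic (V.residueField v) Ω],
      EtCore.Hpull (pullback.fst g (EtAcyc.geomPt V v Ω ≫ j)) _ (m + 1) ξ = 0) :
    (EtCore.Hpull (pullback.snd j g) _ (m + 1) ξ).comp
        (Ext.mk₀ (sqIsoGen (pullback.fst j g) j (pullback.snd j g) g pullback.condition.symm F).inv) (add_zero _) ∈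
      Set.range (EtCore.Hpull (pullback.fst j g) ((EtCoh.pull j).obj F) (m + 1)) := by
  obtain ⟨t, T, p, hT, hlqf, hlfp, hsurj, hz⟩ := exists_cover_Hpull_eq_zero g V j _ (m + 1) ξ h
  let pT : ∐ T ⟶ V := Sigma.desc p
  haveI : LocallyQuasiFinite pT := IsZariskiLocalAtSource.sigmaDesc hlqf
  haveI : LocallyOfFinitePresentation pT := IsZariskiLocalAtSource.sigmaDesc hlfp
  haveI : IsAffine (∐ T) := inferInstance
  have hp : Function.Surjective pT.base := fun v => by
    obtain ⟨w, a, ha⟩ := hsurj v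
    exact ⟨(Sigma.ι T w).base a, (congrArg (fun φ : T w ⟶ V => φ.base a) (Sigma.ι_desc p w)).trans ha⟩
  let q : ∐ T ⟶ Y := pT ≫ j
  have hξ : EtCore.Hpull (pullback.fst g q) _ (m + 1) ξ = 0 :=
    Hpull_fst_sigma_eq_zero g T (fun w => p w ≫ j) q (fun w => (Sigma.ι_desc_assoc _ _ _).trans rfl) _ _ ξ hz
  let gV := pullback.fst j g
  let b := pullback.snd j g
  let pY : pullback g q ⟶ pullback j g := pullback.lift (pullback.snd g q ≫ pT) (pullback.fst g q)
    (by rw [Category.assoc]; exact pullback.condition.symm)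
  have sq : IsPullback (pullback.snd g q) pY pT gV := by
    have e1 : pY ≫ b = pullback.fst g q := pullback.lift_snd _ _ _
    have e2 : pY ≫ gV = pullback.snd g q ≫ pT := pullback.lift_fst _ _ _
    refine (IsPullback.of_right ?_ e2 (IsPullback.of_hasPullback j g).flip).flip
    rw [e1]
    exact IsPullback.of_hasPullback g q
  haveI : QuasiCompact gV := MorphismProperty.pullback_fst _ _ ‹_›
  haveI : QuasiSeparated gV := MorphismProperty.pullback_fst _ _ ‹_›
  haveI : QuasiCompact (pullback.snd g q) := MorphismProperty.pullback_snd _ _ ‹_›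
  haveI : QuasiSeparated (pullback.snd g q) := MorphismProperty.pullback_snd _ _ ‹_›
  haveI : CompactSpace ↥(pullback j g) := QuasiCompact.compactSpace_of_compactSpace gV
  haveI : QuasiSeparatedSpace ↥(pullback j g) := quasiSeparatedSpace_of_quasiSeparated gV
  haveI : CompactSpace ↥(pullback g q) := QuasiCompact.compactSpace_of_compactSpace (pullback.snd g q)
  haveI : QuasiSeparatedSpace ↥(pullback g q) := quasiSeparatedSpace_of_quasiSeparated (pullback.snd g q)
  have hlocV : EtAcyc.IsLocAcyclicN gV L m :=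
    onStrictLocalizations_openRestr (fun _ _ h => EtAcyc.IsAcyclicN h L m) g gV b j pullback.condition hloc
  refine mem_range_of_locAcyclic sq hp hc hlocV (isLTorsion_pull j L hF) _ ?_
  have h1 := (Hpull_comp_eq_zero_iff pY b (pullback.fst g q) (pullback.lift_snd _ _ _) _ _ ξ).1 hξ
  have h2 := (Hpull_comp_iso_eq_zero_iff pY (sqIsoGen gV j b g pullback.condition.symm F).symm (m + 1)
    (EtCore.Hpull b _ (m + 1) ξ)).2 h1
  exact HpullVia_eq_zero pY gV _ _ _ h2

/-- Classes vanishing on the geometric fibres vanish étale locally on the base. -/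
theorem exists_etale_vanish {L : Set ℕ} {m : ℕ} (hglob : EtAcyc.IsAcyclicN g L m) (hloc : EtAcyc.IsLocAcyclicN g L m)
    {F : EtCoh.Ab Y} (hF : EtAcyc.IsLTorsion L F) (ξ : EtCoh.H X ((EtCoh.pull g).obj F) (m + 1))
    (h : ∀ (y : Y) (Ω : Type u) [Field Ω] [IsSepClosed Ω] [Algebra (Y.residueField y) Ω]
      [Algebra.IsAlgebraic (Y.residueField y) Ω],
      EtCore.Hpull (pullback.fst g (EtAcyc.geomPt Y y Ω)) _ (m + 1) ξ = 0) (y : Y) :
    ∃ U : Y.Etale, y ∈ Set.range U.hom ∧
      EtCore.Hpull ((EtCoh.bc g).obj U).hom ((EtCoh.pull g).obj F) (m + 1) ξ = 0 := by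
  obtain ⟨V₀, hV, hy, -⟩ := exists_isAffineOpen_mem_and_subset (U := (⊤ : Y.Opens)) (x := y) trivial
  haveI : IsAffine (V₀ : Scheme.{u}) := hV
  let j : (V₀ : Scheme.{u}) ⟶ Y := V₀.ι
  haveI : Etale j := inferInstanceAs (Etale V₀.ι)
  let VE : Y.Etale := MorphismProperty.Over.mk ⊤ j ‹_›
  obtain ⟨x, hx⟩ := mem_range_open g j (hglob VE) hloc hF ξ fun v Ω _ _ _ _ => by
    obtain ⟨a, ha, e⟩ := exists_geomPt_comp j v Ω
    letI := a
    haveI := ha
    rw [← e]
    exact h (j.base v) Ω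
  obtain ⟨U, ⟨u, hu⟩, hU⟩ := exists_etale_Hpull_eq_zero m _ x ⟨y, hy⟩
  haveI : Etale U.hom := U.prop
  let U' : Y.Etale := MorphismProperty.Over.mk ⊤ (U.hom ≫ j) (inferInstanceAs (Etale (U.hom ≫ j)))
  refine ⟨U', ⟨u, (congrArg j.base hu : _)⟩, ?_⟩
  let c : pullback (U.hom ≫ j) g ⟶ pullback j g := pullback.lift (pullback.fst (U.hom ≫ j) g ≫ U.hom)
    (pullback.snd (U.hom ≫ j) g) (by rw [Category.assoc]; exact pullback.condition)
  refine (Hpull_comp_eq_zero_iff c (pullback.snd j g) _ (pullback.lift_snd _ _ _) _ _ ξ).2 ?_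
  refine (Hpull_comp_iso_eq_zero_iff c (sqIsoGen (pullback.fst j g) j (pullback.snd j g) g
    pullback.condition.symm F).symm (m + 1) (EtCore.Hpull (pullback.snd j g) _ (m + 1) ξ)).1 ?_
  refine (congrArg _ hx.symm).trans ?_
  refine (Hpull_comp_eq_zero_iff c (pullback.fst j g) _ (pullback.lift_fst _ _ _) _ _ x).1 ?_
  refine (Hpull_comp_eq_zero_iff (pullback.fst (U.hom ≫ j) g) U.hom _ rfl _ _ x).2 ?_
  rw [hU, map_zero]

/-- Classes vanishing on the geometric fibres come from the base. -/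
theorem mem_range_of_fibres {L : Set ℕ} {m : ℕ} (hglob : EtAcyc.IsAcyclicN g L m)
    (hloc : EtAcyc.IsLocAcyclicN g L m) {F : EtCoh.Ab Y} (hF : EtAcyc.IsLTorsion L F)
    (ξ : EtCoh.H X ((EtCoh.pull g).obj F) (m + 1))
    (h : ∀ (y : Y) (Ω : Type u) [Field Ω] [IsSepClosed Ω] [Algebra (Y.residueField y) Ω]
      [Algebra.IsAlgebraic (Y.residueField y) Ω],
      EtCore.Hpull (pullback.fst g (EtAcyc.geomPt Y y Ω)) _ (m + 1) ξ = 0) :
    ξ ∈ Set.range (EtCore.Hpull g F (m + 1)) :=
  mem_range_Hpull_of_locally_zero g m hglob hF ξ (exists_etale_vanish g hglob hloc hF ξ h)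

end Groth.Agent.LocAcycBC6
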