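import Groth.Agent.Lib.LocAcycBC6.Stalk
import Groth.Agent.Lib.EtAcyc24.LqfMain
import Groth.Agent.Lib.EtAcyc24.BCTransfer
import Groth.Agent.Lib.LocAcyc24.SHPoint
import Groth.Agent.Lib.Hens.Henselization

/-! # Base change of direct images along quasi-finite morphisms under local acyclicity -/

set_option autoImplicit false
universe u
set_option backward.isDefEq.respectTransparency.types false
set_option linter.style.haveILetI false

open CategoryTheory CategoryTheory.Limits AlgebraicGeometry Opposite IsLocalRing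

namespace Groth.Agent.LocAcycBC6

open Groth.Agent.EtStalk Groth.Agent.EtAcyc24

/-- The comparison is inherited by cartesian squares along quasi-finite morphisms. -/
theorem compN_of_isPullback {A B A' B' : Scheme.{u}} {g : A ⟶ B} {i : B' ⟶ B} {m : A' ⟶ B'} {b : A' ⟶ A}
    (sq : IsPullback b m g i) [LocallyQuasiFinite i] [LocallyOfFiniteType i] {L : Set ℕ} {n : ℕ}
    (hg : EtAcyc.IsAcyclicN g L n) : EtAcyc.CompN m L n := by
  rw [← sq.isoPullback_hom_snd]
  exact (compN_comp_iff sq.isoPullback.hom (pullback.snd g i) (compN_of_isIso sq.isoPullback.hom L n)).1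
    (compN_snd g L n hg B' i)

/-- An acyclic morphism compares cohomology on its target. -/
theorem compN_self {A B : Scheme.{u}} {g : A ⟶ B} {L : Set ℕ} {n : ℕ} (hg : EtAcyc.IsAcyclicN g L n) :
    EtAcyc.CompN g L n :=
  compN_of_isPullback (IsPullback.id_horiz g) hg

variable {X Y Xb Yb : Scheme.{u}} {g : X ⟶ Y} {p : Yb ⟶ Y} {pY : Xb ⟶ X} {hb : Xb ⟶ Yb}
  [QuasiCompact p] [QuasiSeparated p] [LocallyQuasiFinite p] [LocallyOfFiniteType p]
  {L : Set ℕ} {n : ℕ}

omit [QuasiCompact p] [QuasiSeparated p] in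
/-- The data at one point. -/
theorem exists_point_data (sq : IsPullback hb pY p g) (hg : EtAcyc.IsLocAcyclicN g L n) (x : X) :
    ∃ (RX RY : Type u) (_ : CommRing RX) (_ : HenselianLocalRing RX) (_ : IsSepClosed (ResidueField RX))
      (_ : CommRing RY) (_ : HenselianLocalRing RY) (_ : IsSepClosed (ResidueField RY))
      (σx : Spec (CommRingCat.of RX) ⟶ X) (σy : Spec (CommRingCat.of RY) ⟶ Y)
      (sψ : Spec (CommRingCat.of RX) ⟶ Spec (CommRingCat.of RY)) (e : sψ ≫ σy = σx ≫ g),
      (closedPt RX ≫ σx) default = x ∧ Nonempty (StrictLim24.StrictSys σx) ∧ Nonempty (StrictLim24.StrictSys σy) ∧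
      EtAcyc.CompN sψ L n ∧ EtAcyc.CompN (locMap sq.w e) L n := by
  let RX := Hens.Hsh (X.presheaf.stalk x)
  let RY := Hens.Hsh (Y.presheaf.stalk (g x))
  haveI : IsSepClosed (ResidueField RX) :=
    (Hensel.IsStrictHenselization.isSepClosure (R := X.presheaf.stalk x) (S := RX)).sep_closed
  haveI : IsSepClosed (ResidueField RY) :=
    (Hensel.IsStrictHenselization.isSepClosure (R := Y.presheaf.stalk (g x)) (S := RY)).sep_closed
  obtain ⟨ψ, hψ, hψe⟩ := LocAcyc24.exists_lift (X := Y) (x := g x) (R := RY) (T := RX)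
    (Hens2.specOf X x RX ≫ g) (by
      rw [Scheme.Hom.comp_apply]
      exact congrArg g.base LocAcyc24.specOf_closedPoint)
  letI := ψ.toAlgebra
  haveI : IsLocalHom (algebraMap RY RX) := hψ
  have hacyc : EtAcyc.IsAcyclicN (Spec.map (CommRingCat.ofHom (algebraMap RY RX))) L n :=
    hg x RY RX ((LocAcyc24.specOf_compat g ψ).2 hψe)
  refine ⟨RX, RY, inferInstance, inferInstance, inferInstance, inferInstance, inferInstance, inferInstance,
    Hens2.specOf X x RX, Hens2.specOf Y (g x) RY, Spec.map (CommRingCat.ofHom ψ), hψe, ?_,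
    StrictLim24.nonempty_strictSys X x RX, StrictLim24.nonempty_strictSys Y (g x) RY, compN_self hacyc, ?_⟩
  · rw [Scheme.Hom.comp_apply]
    refine Eq.trans (congrArg (Hens2.specOf X x RX).base ?_) LocAcyc24.specOf_closedPoint
    rw [show (default : Spec (CommRingCat.of (ResidueField RX))) = closedPoint (ResidueField RX) from
      Subsingleton.elim _ _]
    exact IsLocalRing.comap_closedPoint (IsLocalRing.residue RX)
  · exact compN_of_isPullback (isPullback_locMap hψe sq).flip hacyc

/-- Base change in degree zero along quasi-finite morphisms. -/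
theorem isIso_baseChange0 (sq : IsPullback hb pY p g) (hg : EtAcyc.IsLocAcyclicN g L n) {J : EtCoh.Ab Yb}
    (hJ : EtAcyc.IsLTorsion L J) : IsIso (EtCoh.baseChange0 p g pY hb sq.w J) := by
  haveI : QuasiCompact pY := MorphismProperty.of_isPullback sq ‹QuasiCompact p›
  haveI : QuasiSeparated pY := MorphismProperty.of_isPullback sq ‹QuasiSeparated p›
  refine NearLA6.isIso_of_points _ fun x => ?_
  obtain ⟨RX, RY, _, _, _, _, _, _, σx, σy, sψ, e, hx, ⟨TX⟩, ⟨TY⟩, hψ, hm⟩ := exists_point_data sq hg x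
  refine ⟨_, inferInstance, inferInstance, closedPt RX ≫ σx, hx, ?_⟩
  exact bijective_stalk_baseChange0 sq.w e TX TY J
    (NearLA6.bijective_sec_top sψ _ ((hψ _ (isLTorsion_pull σy L (isLTorsion_push p L hJ))).1 0 (Nat.zero_le n)))
    (NearLA6.bijective_sec_top (locMap sq.w e) _
      ((hm _ (isLTorsion_pull (pullback.fst p σy) L hJ)).1 0 (Nat.zero_le n)))

/-- Vanishing of higher direct images is inherited. -/
theorem isZero_Rpush (sq : IsPullback hb pY p g) (hg : EtAcyc.IsLocAcyclicN g L n) {J : EtCoh.Ab Yb}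
    (hJ : EtAcyc.IsLTorsion L J) (q : ℕ) (hq : q ≤ n) (hz : IsZero ((EtCoh.Rpush p q).obj J)) :
    IsZero ((EtCoh.Rpush pY q).obj ((EtCoh.pull hb).obj J)) := by
  haveI : QuasiCompact pY := MorphismProperty.of_isPullback sq ‹QuasiCompact p›
  haveI : QuasiSeparated pY := MorphismProperty.of_isPullback sq ‹QuasiSeparated p›
  refine NearLA6.isZero_of_points _ fun x => ?_
  obtain ⟨RX, RY, _, _, _, _, _, _, σx, σy, sψ, e, hx, ⟨TX⟩, ⟨TY⟩, hψ, hm⟩ := exists_point_data sq hg x
  refine ⟨_, inferInstance, inferInstance, closedPt RX ≫ σx, hx, ?_⟩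
  exact isZero_stalk_Rpush_bc sq.w e TX TY J q hz ((hm _ (isLTorsion_pull (pullback.fst p σy) L hJ)).1 q hq)

end Groth.Agent.LocAcycBC6
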