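import Groth.Prelude.Def_EtAcyc
import Mathlib.AlgebraicGeometry.Morphisms.QuasiFinite
import Mathlib.AlgebraicGeometry.Morphisms.FinitePresentation
import Mathlib.CategoryTheory.Presentable.Directed
import Mathlib.CategoryTheory.Limits.Types.Filtered
import Mathlib.Algebra.Category.Ring.FilteredColimits
import Mathlib.RingTheory.Localization.Integral
import Mathlib.RingTheory.QuasiFinite.Basic
import Mathlib.RingTheory.AdjoinRoot
import Mathlib.RingTheory.FinitePresentation

/-! # An algebraic geometric point as a limit of quasi-finite schemes of finite presentation -/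

set_option autoImplicit false
set_option linter.style.haveILetI false
set_option backward.isDefEq.respectTransparency.types false

universe u

open CategoryTheory CategoryTheory.Limits AlgebraicGeometry Opposite
open scoped TensorProduct

namespace Groth.Agent.LocAcycBC6

section Alg

variable (A : Type u) [CommRing A] (Ω : Type u) [Field Ω] [Algebra A Ω]

/-- Quasi-finite algebras of finite presentation over the field. -/
structure QFNbhd : Type u where
  n : ℕ
  I : Ideal (MvPolynomial (Fin n) A)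
  fg : I.FG
  qf : Algebra.QuasiFinite A (MvPolynomial (Fin n) A ⧸ I)
  σ : (MvPolynomial (Fin n) A ⧸ I) →ₐ[A] Ω

variable {A Ω}

namespace QFNbhd

/-- The coordinate ring. -/
abbrev S (i : QFNbhd A Ω) : Type u := MvPolynomial (Fin i.n) A ⧸ i.I

noncomputable instance : SmallCategory (QFNbhd A Ω) where
  Hom i j := {ψ : i.S →ₐ[A] j.S // j.σ.comp ψ = i.σ}
  id i := ⟨AlgHom.id A _, AlgHom.comp_id _⟩
  comp f g := ⟨g.1.comp f.1, by rw [← AlgHom.comp_assoc, g.2, f.2]⟩
  id_comp f := Subtype.ext (AlgHom.comp_id _)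
  comp_id f := Subtype.ext (AlgHom.id_comp _)
  assoc f g h := Subtype.ext (AlgHom.comp_assoc _ _ _)

instance (i : QFNbhd A Ω) : Algebra.FinitePresentation A i.S :=
  Algebra.FinitePresentation.quotient i.fg

instance (i : QFNbhd A Ω) : Algebra.QuasiFinite A i.S := i.qf

theorem exists_of (B : Type u) [CommRing B] [Algebra A B] [Algebra.FinitePresentation A B]
    [Algebra.QuasiFinite A B] (τ : B →ₐ[A] Ω) :
    ∃ (k : QFNbhd A Ω) (e : B →ₐ[A] k.S), k.σ.comp e = τ := by
  obtain ⟨n, f, hf, hfg⟩ := (inferInstance : Algebra.FinitePresentation A B).out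
  let e : (MvPolynomial (Fin n) A ⧸ RingHom.ker f.toRingHom) ≃ₐ[A] B := Ideal.quotientKerAlgEquivOfSurjective hf
  refine ⟨⟨n, RingHom.ker f.toRingHom, hfg, Algebra.QuasiFinite.of_surjective_algHom e.symm.toAlgHom e.symm.surjective,
    τ.comp e.toAlgHom⟩, e.symm.toAlgHom, AlgHom.ext fun b => ?_⟩
  show τ (e (e.symm b)) = τ b
  rw [AlgEquiv.apply_symm_apply]

theorem exists_hom₂ (i j : QFNbhd A Ω) : ∃ k, Nonempty (i ⟶ k) ∧ Nonempty (j ⟶ k) := by
  haveI : Algebra.FinitePresentation A (i.S ⊗[A] j.S) := Algebra.FinitePresentation.trans A i.S (i.S ⊗[A] j.S)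
  haveI : Algebra.QuasiFinite A (i.S ⊗[A] j.S) := Algebra.QuasiFinite.trans A i.S (i.S ⊗[A] j.S)
  obtain ⟨k, e, he⟩ := exists_of (i.S ⊗[A] j.S) (Algebra.TensorProduct.lift i.σ j.σ fun _ _ => .all _ _)
  refine ⟨k, ⟨⟨e.comp Algebra.TensorProduct.includeLeft, ?_⟩⟩, ⟨⟨e.comp Algebra.TensorProduct.includeRight, ?_⟩⟩⟩
  · rw [← AlgHom.comp_assoc, he]
    exact AlgHom.ext fun x => by simp
  · rw [← AlgHom.comp_assoc, he]
    exact AlgHom.ext fun x => by simp

theorem exists_kill (i : QFNbhd A Ω) {ι : Type} [Finite ι] (s : ι → i.S) (hs : ∀ c, i.σ (s c) = 0) :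
    ∃ (k : QFNbhd A Ω) (f : i ⟶ k), ∀ c, f.1 (s c) = 0 := by
  let J : Ideal i.S := Ideal.span (Set.range s)
  have hJ : J.FG := Submodule.fg_span (Set.finite_range s)
  haveI : Algebra.FinitePresentation A (i.S ⧸ J) := Algebra.FinitePresentation.quotient hJ
  have hle : ∀ x ∈ J, i.σ x = 0 := fun x hx => by
    have : J ≤ RingHom.ker i.σ.toRingHom := Ideal.span_le.2 (by rintro _ ⟨c, rfl⟩; exact hs c)
    exact this hx
  obtain ⟨k, e, he⟩ := exists_of (i.S ⧸ J) (Ideal.Quotient.liftₐ J i.σ hle)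
  refine ⟨k, ⟨e.comp (Ideal.Quotient.mkₐ A J), ?_⟩, fun c => ?_⟩
  · rw [← AlgHom.comp_assoc, he]
    exact AlgHom.ext fun x => rfl
  · show e (Ideal.Quotient.mk J (s c)) = 0
    have h0 : Ideal.Quotient.mk J (s c) = 0 := Ideal.Quotient.eq_zero_iff_mem.2 (Ideal.subset_span (Set.mem_range_self c))
    rw [h0, map_zero]

instance : Nonempty (QFNbhd A Ω) :=
  ⟨(exists_of A (Algebra.ofId A Ω)).choose⟩

instance : IsFiltered (QFNbhd A Ω) where
  cocone_objs i j := by
    obtain ⟨k, ⟨f⟩, ⟨g⟩⟩ := exists_hom₂ i j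
    exact ⟨k, f, g, trivial⟩
  cocone_maps {i j} f g := by
    obtain ⟨k, e, he⟩ := j.exists_kill (ι := Fin i.n)
      (fun c => f.1 (Ideal.Quotient.mk _ (MvPolynomial.X c)) - g.1 (Ideal.Quotient.mk _ (MvPolynomial.X c)))
      (fun c => by
        rw [map_sub, ← AlgHom.comp_apply, f.2, ← AlgHom.comp_apply, g.2, sub_self])
    refine ⟨k, e, Subtype.ext (Ideal.Quotient.algHom_ext A (MvPolynomial.algHom_ext fun c => ?_))⟩
    exact sub_eq_zero.1 ((map_sub e.1 _ _).symm.trans (he c))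

theorem exists_cover (f : A) (hf : algebraMap A Ω f ≠ 0) {y : Ω} (hy : IsIntegral A y) (m : ℕ) :
    ∃ (k : QFNbhd A Ω) (z : k.S), k.σ z = y * ((algebraMap A Ω f)⁻¹) ^ m := by
  obtain ⟨P, hPm, hP⟩ := hy
  haveI : Module.Finite A (AdjoinRoot P) := hPm.finite_adjoinRoot
  haveI : Algebra.FinitePresentation A (AdjoinRoot P) := inferInstance
  let τ : AdjoinRoot P →ₐ[A] Ω := AdjoinRoot.liftAlgHom P (Algebra.ofId A Ω) y hP
  have hu : IsUnit (τ (algebraMap A (AdjoinRoot P) f)) := by
    rw [AlgHom.commutes]; exact isUnit_iff_ne_zero.2 hf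
  let T := Localization.Away (algebraMap A (AdjoinRoot P) f)
  haveI : Algebra.FinitePresentation (AdjoinRoot P) T :=
    IsLocalization.Away.finitePresentation (algebraMap A (AdjoinRoot P) f)
  haveI : Algebra.FinitePresentation A T := Algebra.FinitePresentation.trans A (AdjoinRoot P) T
  haveI : Algebra.QuasiFinite A T := inferInstance
  obtain ⟨k, e, he⟩ := exists_of T (IsLocalization.Away.liftAlgHom (algebraMap A (AdjoinRoot P) f) (f := τ) hu)
  refine ⟨k, e (algebraMap (AdjoinRoot P) T (AdjoinRoot.root P) *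
    (IsLocalization.Away.invSelf (algebraMap A (AdjoinRoot P) f)) ^ m), ?_⟩
  rw [← AlgHom.comp_apply, he, map_mul, map_pow]
  have h1 : ∀ b, IsLocalization.Away.liftAlgHom (S := T) (algebraMap A (AdjoinRoot P) f) (f := τ) hu
      (algebraMap (AdjoinRoot P) T b) = τ b := fun b => IsLocalization.Away.lift_eq _ hu b
  rw [h1, show τ (AdjoinRoot.root P) = y from AdjoinRoot.liftAlgHom_root _ _ _ _]
  congr 2
  refine eq_inv_of_mul_eq_one_left ?_
  rw [mul_comm, ← τ.commutes, ← h1, ← map_mul, IsLocalization.Away.mul_invSelf, map_one]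

end QFNbhd

end Alg

/-- A morphism as a limit of affine schemes quasi-finite of finite presentation over the target. -/
structure QFSys {P Y : Scheme.{u}} (σ : P ⟶ Y) where
  ι : Type u
  [pre : Preorder ι]
  [dir : IsDirected ι (· ≤ ·)]
  [ne : Nonempty ι]
  T : ιᵒᵖ ⥤ Scheme.{u}
  isAffine : ∀ i, IsAffine (T.obj i)
  π : (Functor.const ιᵒᵖ).obj P ⟶ T
  isLimit : IsLimit (Cone.mk P π)
  b : ∀ i : ιᵒᵖ, T.obj i ⟶ Y
  hb : ∀ ⦃i j : ιᵒᵖ⦄ (f : i ⟶ j), T.map f ≫ b j = b i
  hπ : ∀ i : ιᵒᵖ, π.app i ≫ b i = σ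
  lqf : ∀ i, LocallyQuasiFinite (b i)
  lfp : ∀ i, LocallyOfFinitePresentation (b i)

attribute [instance] QFSys.pre QFSys.dir QFSys.ne QFSys.isAffine QFSys.lqf QFSys.lfp

theorem nonempty_qfSys_affine {A Ω : Type u} [CommRing A] [Field Ω] [Algebra A Ω] {Y : Scheme.{u}}
    (j : Spec (CommRingCat.of A) ⟶ Y) [IsOpenImmersion j]
    (hx : ∀ x : Ω, ∃ (f : A) (m : ℕ), algebraMap A Ω f ≠ 0 ∧ IsIntegral A (x * algebraMap A Ω f ^ m)) :
    Nonempty (QFSys (Spec.map (CommRingCat.ofHom (algebraMap A Ω)) ≫ j)) := by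
  obtain ⟨ι, hι, hdir, hne, F, hF⟩ := IsFiltered.exists_directed (QFNbhd A Ω)
  let D : QFNbhd A Ω ⥤ CommRingCat.{u} :=
    { obj := fun i => CommRingCat.of i.S
      map := fun f => CommRingCat.ofHom f.1.toRingHom }
  let cc : Cocone D :=
    { pt := CommRingCat.of Ω
      ι :=
        { app := fun i => CommRingCat.ofHom i.σ.toRingHom
          naturality := fun a b f => CommRingCat.hom_ext (congrArg AlgHom.toRingHom f.2) } }
  haveI : PreservesColimit D (forget CommRingCat.{u}) := inferInstance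
  haveI : ReflectsColimit D (forget CommRingCat.{u}) := reflectsColimit_of_reflectsIsomorphisms _ _
  have hcc : IsColimit cc := isColimitOfReflects (forget CommRingCat)
    (Types.FilteredColimit.isColimitOf' _ _ (fun x => by
      obtain ⟨f, m, hf, hm⟩ := hx x
      obtain ⟨k, z, hz⟩ := QFNbhd.exists_cover f hf hm m
      refine ⟨k, z, ?_⟩
      refine Eq.trans ?_ hz.symm
      rw [mul_assoc, ← mul_pow, mul_inv_cancel₀ hf, one_pow, mul_one]) fun i x y h => by
      obtain ⟨k, f, hf⟩ := i.exists_kill (ι := Unit) (fun _ => x - y) (fun _ => by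
        rw [map_sub]; exact sub_eq_zero.2 h)
      exact ⟨k, f, sub_eq_zero.1 ((map_sub f.1 x y).symm.trans (hf ()))⟩)
  have hc₁ : IsLimit (Scheme.Spec.mapCone cc.op) := isLimitOfPreserves Scheme.Spec hcc.op
  have hc₂ := (Functor.Initial.isLimitWhiskerEquiv F.op (Scheme.Spec.mapCone cc.op)).symm hc₁
  refine ⟨{ ι := ι, T := F.op ⋙ D.op ⋙ Scheme.Spec, isAffine := fun i => ?_,
            π := ((Scheme.Spec.mapCone cc.op).whisker F.op).π, isLimit := hc₂,
            b := fun i => Spec.map (CommRingCat.ofHom (algebraMap A (F.obj i.unop).S)) ≫ j,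
            hb := fun a b h => ?_, hπ := fun i => ?_, lqf := fun i => ?_, lfp := fun i => ?_ }⟩
  · show IsAffine (Spec _)
    infer_instance
  · show Spec.map (CommRingCat.ofHom (F.map h.unop).1.toRingHom) ≫
      Spec.map (CommRingCat.ofHom (algebraMap A (F.obj b.unop).S)) ≫ j = _
    rw [← Spec.map_comp_assoc]
    congr 2
    exact CommRingCat.hom_ext (F.map h.unop).1.comp_algebraMap
  · show Spec.map (CommRingCat.ofHom (F.obj i.unop).σ.toRingHom) ≫
      Spec.map (CommRingCat.ofHom (algebraMap A (F.obj i.unop).S)) ≫ j = _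
    rw [← Spec.map_comp_assoc]
    congr 2
    exact CommRingCat.hom_ext (F.obj i.unop).σ.comp_algebraMap
  · haveI : LocallyQuasiFinite (Spec.map (CommRingCat.ofHom (algebraMap A (F.obj i.unop).S))) :=
      (HasRingHomProperty.Spec_iff (P := @LocallyQuasiFinite)).2 (RingHom.quasiFinite_algebraMap.2 inferInstance)
    infer_instance
  · haveI : LocallyOfFinitePresentation (Spec.map (CommRingCat.ofHom (algebraMap A (F.obj i.unop).S))) :=
      (HasRingHomProperty.Spec_iff (P := @LocallyOfFinitePresentation)).2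
        (RingHom.finitePresentation_algebraMap.2 inferInstance)
    infer_instance

/-- An algebraic geometric point of an affine scheme is a limit of quasi-finite schemes. -/
theorem nonempty_qfSys (Y : Scheme.{u}) [IsAffine Y] (y : Y) (Ω : Type u) [Field Ω] [Algebra (Y.residueField y) Ω]
    [Algebra.IsAlgebraic (Y.residueField y) Ω] : Nonempty (QFSys (EtAcyc.geomPt Y y Ω)) := by
  have hU : IsAffineOpen (⊤ : Y.Opens) := isAffineOpen_top Y
  have hy : y ∈ (⊤ : Y.Opens) := trivial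
  letI : Algebra Γ(Y, ⊤) (Y.presheaf.stalk y) := (Y.presheaf.germ ⊤ y hy).hom.toAlgebra
  let r : Y.presheaf.stalk y →+* Ω := (algebraMap (Y.residueField y) Ω).comp (Y.residue y).hom
  letI : Algebra (Y.presheaf.stalk y) Ω := r.toAlgebra
  letI : Algebra Γ(Y, ⊤) Ω := (r.comp (algebraMap Γ(Y, ⊤) (Y.presheaf.stalk y))).toAlgebra
  haveI : IsScalarTower Γ(Y, ⊤) (Y.presheaf.stalk y) Ω := IsScalarTower.of_algebraMap_eq' rfl
  haveI hloc : IsLocalization.AtPrime (Y.presheaf.stalk y) (hU.primeIdealOf ⟨y, hy⟩).asIdeal :=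
    hU.isLocalization_stalk ⟨y, hy⟩
  have hres : Function.Surjective (Y.residue y).hom := IsLocalRing.residue_surjective
  have hx : ∀ x : Ω, ∃ (f : Γ(Y, ⊤)) (m : ℕ), algebraMap Γ(Y, ⊤) Ω f ≠ 0 ∧
      IsIntegral Γ(Y, ⊤) (x * algebraMap Γ(Y, ⊤) Ω f ^ m) := by
    intro x
    have hint : IsIntegral (Y.presheaf.stalk y) x := by
      have hk : IsIntegral (Y.residueField y) x := Algebra.IsIntegral.isIntegral x
      letI : Algebra (Y.presheaf.stalk y) (Y.residueField y) := (Y.residue y).hom.toAlgebra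
      haveI : IsScalarTower (Y.presheaf.stalk y) (Y.residueField y) Ω := IsScalarTower.of_algebraMap_eq' rfl
      haveI : Algebra.IsIntegral (Y.presheaf.stalk y) (Y.residueField y) := ⟨fun z => by
        obtain ⟨a, rfl⟩ := hres z
        exact isIntegral_algebraMap⟩
      exact isIntegral_trans x hk
    obtain ⟨m, hm⟩ := IsIntegral.exists_multiple_integral_of_isLocalization
      (hU.primeIdealOf ⟨y, hy⟩).asIdeal.primeCompl x hint
    have hne : algebraMap Γ(Y, ⊤) Ω m.1 ≠ 0 := by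
      rw [IsScalarTower.algebraMap_apply Γ(Y, ⊤) (Y.presheaf.stalk y) Ω]
      exact ((IsLocalization.map_units (Y.presheaf.stalk y) m).map _).ne_zero
    refine ⟨m.1, 1, hne, ?_⟩
    rw [pow_one, mul_comm, ← Algebra.smul_def]
    exact hm
  haveI : IsOpenImmersion hU.fromSpec := hU.isOpenImmersion_fromSpec
  obtain ⟨T⟩ := nonempty_qfSys_affine hU.fromSpec hx
  have e : Spec.map (CommRingCat.ofHom (algebraMap Γ(Y, ⊤) Ω)) ≫ hU.fromSpec = EtAcyc.geomPt Y y Ω := by
    show Spec.map (Y.presheaf.germ ⊤ y hy ≫ (Y.residue y ≫ CommRingCat.ofHom (algebraMap (Y.residueField y) Ω))) ≫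
      hU.fromSpec = _
    rw [Spec.map_comp, Category.assoc]
    refine (congrArg (fun q => Spec.map (Y.residue y ≫ CommRingCat.ofHom (algebraMap (Y.residueField y) Ω)) ≫ q)
      (hU.fromSpecStalk_eq_fromSpecStalk hy)).trans ?_
    rw [Spec.map_comp, Category.assoc]
    rfl
  exact ⟨{ T with hπ := fun i => (T.hπ i).trans e }⟩

end Groth.Agent.LocAcycBC6
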