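import Groth.Agent.Lib.NearLA6.Sections
import Groth.Agent.Lib.EtStalk.FiniteBC
import Groth.Agent.Lib.EtAcyc24.Comp
import Groth.Agent.Lib.EtStalk.Topological
import Groth.Agent.Lib.EtAcyc24.LqfCriterion

/-! # Base change maps of direct images read on strict localisations -/

set_option autoImplicit false
universe u
set_option backward.isDefEq.respectTransparency.types false
set_option linter.style.haveILetI false
set_option linter.unusedSectionVars false

open CategoryTheory CategoryTheory.Limits AlgebraicGeometry Opposite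

namespace Groth.Agent.LocAcycBC6

open Groth.Agent.EtStalk Groth.Agent.StrictLim24 Groth.Agent.NearLA6

section Henselian

variable {R : Type u} [CommRing R] [HenselianLocalRing R] [IsSepClosed (IsLocalRing.ResidueField R)]
  {Ω : Type u} [Field Ω] [IsSepClosed Ω] (ξ : Spec (CommRingCat.of Ω) ⟶ Spec (CommRingCat.of R))

/-- A lift of the closed point along an etale morphism extends to a section through which every geometric point over
it factors. -/
theorem exists_section_through (hξ : ξ default = closedPt R default) {U : (Spec (CommRingCat.of R)).Etale}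
    (φ : fib ξ U) : ∃ σ : EtCoh.top (Spec (CommRingCat.of R)) ⟶ U, φ.left = ξ ≫ σ.left := by
  let φl : Spec (CommRingCat.of Ω) ⟶ U.left := φ.left
  have h3 : φl ≫ U.hom = ξ := Over.w φ
  obtain ⟨φ₀, hφ₀⟩ := Scheme.pointSmallEtaleFiberObjToPreimage_surjective (closedPt R)
    (s₀ := closedPt R default) rfl U ⟨φl default,
      ((congrArg (fun k : Spec (CommRingCat.of Ω) ⟶ Spec (CommRingCat.of R) => k default) h3).trans hξ)⟩
  obtain ⟨σ, hσ⟩ := exists_section R φ₀
  let sl : Spec (CommRingCat.of R) ⟶ U.left := σ.left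
  let φ₀l : Spec (CommRingCat.of (IsLocalRing.ResidueField R)) ⟶ U.left := φ₀.left
  let p : U ⟶ EtCoh.top (Spec (CommRingCat.of R)) :=
    MorphismProperty.Over.homMk U.hom (Category.comp_id U.hom)
  haveI : IsOpenImmersion sl := isOpenImmersion_of_section σ p
    (MorphismProperty.Over.Hom.ext (MorphismProperty.Over.w σ))
  have hsl : sl ≫ U.hom = 𝟙 _ := MorphismProperty.Over.w σ
  have h1 : φ₀l default = φl default := congrArg Subtype.val hφ₀
  have h2 : closedPt R ≫ sl = φ₀l := congrArg (fun k : fib (closedPt R) U => k.left) hσ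
  let k : Spec (CommRingCat.of Ω) ⟶ Spec (CommRingCat.of R) := IsOpenImmersion.lift sl φl (by
    rintro _ ⟨a, rfl⟩
    rw [Subsingleton.elim a default]
    exact ⟨closedPt R default,
      ((congrArg (fun m : Spec (CommRingCat.of (IsLocalRing.ResidueField R)) ⟶ U.left => m default) h2).trans h1)⟩)
  have hk : k ≫ sl = φl := IsOpenImmersion.lift_fac _ _ _
  refine ⟨σ, show φl = ξ ≫ sl from hk.symm.trans (congrArg (· ≫ sl) ?_)⟩
  rw [← hk, Category.assoc, hsl, Category.comp_id] at h3
  exact h3

/-- Global sections are the stalk at every geometric point over the closed point. -/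
theorem bijective_germ_of_closed (hξ : ξ default = closedPt R default) (v : fib ξ (EtCoh.top _))
    (F : EtCoh.Ab (Spec (CommRingCat.of R))) : Function.Bijective (germ ξ F v) := by
  constructor
  · intro s t h
    obtain ⟨V, g, y, -, he⟩ := (germ_eq_iff _ F v s t).1 h
    obtain ⟨σ, -⟩ := exists_section_through ξ hξ y
    have hid : σ ≫ g = 𝟙 _ := MorphismProperty.Over.Hom.ext ((Category.comp_id _).symm.trans
      ((MorphismProperty.Over.w (σ ≫ g)).trans rfl))
    have h2 := congrArg (F.obj.map σ.op) he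
    rwa [← ConcreteCategory.comp_apply, ← ConcreteCategory.comp_apply, ← F.obj.map_comp,
      ← op_comp, hid, op_id, F.obj.map_id] at h2
  · intro p
    obtain ⟨U, φ, t, rfl⟩ := germ_surjective _ F p
    obtain ⟨σ, hσ⟩ := exists_section_through ξ hξ φ
    refine ⟨F.obj.map σ.op t, ?_⟩
    rw [germ_map]
    refine congrArg (fun k => germ ξ F k t) (Over.OverMorphism.ext ?_)
    refine Eq.trans ?_ hσ.symm
    exact congrArg (· ≫ σ.left) ((Category.comp_id _).symm.trans (Over.w v))

variable {S : Type u} [CommRing S] [HenselianLocalRing S] [IsSepClosed (IsLocalRing.ResidueField S)]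

/-- Global sections agree along a local map of strictly henselian spectra. -/
theorem bijective_sec_of_local (f : Spec (CommRingCat.of S) ⟶ Spec (CommRingCat.of R))
    (hf : (closedPt S ≫ f) default = closedPt R default) (M : EtCoh.Ab (Spec (CommRingCat.of R))) :
    Function.Bijective (sec f M (EtCoh.top _) f (Category.comp_id f)) := by
  let v : fib (closedPt S ≫ f) (EtCoh.top (Spec (CommRingCat.of R))) :=
    Over.homMk (closedPt S ≫ f) (Category.comp_id _)
  have hb := (ConcreteCategory.bijective_of_isIso (stalkPull f (closedPt S) M)).comp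
    (bijective_germ_of_closed (closedPt S ≫ f) hf v M)
  let T := EtCoh.top (Spec (CommRingCat.of R))
  let g := bijective_germ_top S ((EtCoh.pull f).obj M)
  have key : ∀ s, stalkPull f (closedPt S) M (germ (closedPt S ≫ f) M v s) =
      germ (closedPt S) ((EtCoh.pull f).obj M) (topFib S) (sec f M T f (Category.comp_id f) s) :=
    fun s => germ_top_sec T f (Category.comp_id f) v rfl M s
  refine ⟨fun a b hab => hb.1 ((key a).trans ((congrArg _ hab).trans (key b).symm)), fun c => ?_⟩
  obtain ⟨a, ha⟩ := hb.2 (germ (closedPt S) ((EtCoh.pull f).obj M) (topFib S) c)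
  exact ⟨a, g.1 ((key a).symm.trans ha)⟩

end Henselian

/-- Global sections inject along surjective morphisms. -/
theorem injective_sec_top {A B : Scheme.{u}} [CompactSpace B] [QuasiSeparatedSpace B] (v : A ⟶ B)
    (hv : Function.Surjective v.base) (G : EtCoh.Ab B) :
    Function.Injective (sec v G (EtCoh.top B) v (Category.comp_id v)) := by
  haveI := EtAcyc24.mono_unit_of_surjective v hv G
  intro a b hab
  rw [sec_apply, sec_apply] at hab
  exact (mono_iff_app_injective ((EtCoh.pullPushAdj v).unit.app G)).1 inferInstance _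
    ((StrictSys.map_topUp_injective v ((EtCoh.pull v).obj G)).1 hab)

/-- A morphism which is injective on one stalk over each point is a monomorphism. -/
theorem mono_of_points {X : Scheme.{u}} {F G : EtCoh.Ab X} (a : F ⟶ G)
    (h : ∀ z : X, ∃ (Ω : Type u) (_ : Field Ω) (_ : IsSepClosed Ω) (ξ : Spec (CommRingCat.of Ω) ⟶ X),
      ξ default = z ∧ Function.Injective ((EtCoh.stalk ξ).map a)) : Mono a := by
  refine (mono_iff_app_injective a).2 fun U s t hst => eq_of_agree F fun x => ?_
  obtain ⟨Ω, _, _, ξ, hξ, hb⟩ := h (U.unop.hom x)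
  obtain ⟨φ, hφ⟩ := Scheme.pointSmallEtaleFiberObjToPreimage_surjective ξ hξ U.unop ⟨x, rfl⟩
  have hφ' : fibPt φ = x := congrArg Subtype.val hφ
  refine hφ' ▸ (mem_agree_iff_germ F φ s t).2 (hb ?_)
  rw [germ_nat, germ_nat, hst]

section One

variable {S : Scheme.{u}} {R : Type u} [CommRing R] [HenselianLocalRing R] [IsSepClosed (IsLocalRing.ResidueField R)]
  {σ : Spec (CommRingCat.of R) ⟶ S} (T : StrictSys σ) {X : Scheme.{u}} (f : X ⟶ S) [QuasiCompact f] [QuasiSeparated f]

include T in
/-- Every global section on the strict localisation comes from a neighbourhood. -/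
theorem exists_sec_eq (M : EtCoh.Ab S)
    (y : ((EtCoh.pull σ).obj M).obj.obj (op (EtCoh.top (Spec (CommRingCat.of R))))) :
    ∃ (j : T.ι) (s : M.obj.obj (op (T.W.obj (op j)))), sec σ M (T.W.obj (op j)) (T.π.app (op j)) (T.hπ j) s = y := by
  obtain ⟨q, hq⟩ := (ConcreteCategory.bijective_of_isIso (stalkPull σ (closedPt R) M)).2
    (germ (closedPt R) ((EtCoh.pull σ).obj M) (topFib R) y)
  obtain ⟨j, s, rfl⟩ := NearLA6.exists_stage_germ T M q
  refine ⟨j, s, (bijective_germ_top R ((EtCoh.pull σ).obj M)).1 ?_⟩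
  rw [← hq]
  exact (germ_top_sec _ (T.π.app (op j)) (T.hπ j) (T.φ j) rfl M s).symm

/-- The fibre product map to a neighbourhood given by a morphism on the strict localisation. -/
noncomputable def liftTo (V : S.Etale) (l : Spec (CommRingCat.of R) ⟶ V.left) (hl : l ≫ V.hom = σ) :
    pullback f σ ⟶ ((EtCoh.bc f).obj V).left :=
  pullback.lift (pullback.snd f σ ≫ l) (pullback.fst f σ) (by rw [Category.assoc, hl, pullback.condition])

omit [QuasiCompact f] [QuasiSeparated f] in
theorem liftTo_hom (V : S.Etale) (l : Spec (CommRingCat.of R) ⟶ V.left) (hl : l ≫ V.hom = σ) :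
    liftTo f V l hl ≫ ((EtCoh.bc f).obj V).hom = pullback.fst f σ := pullback.lift_snd _ _ _

omit [QuasiCompact f] [QuasiSeparated f] in
theorem liftTo_fst (V : S.Etale) (l : Spec (CommRingCat.of R) ⟶ V.left) (hl : l ≫ V.hom = σ) :
    liftTo f V l hl ≫ pullback.fst V.hom f = pullback.snd f σ ≫ l := pullback.lift_fst _ _ _

/-- The comparison with sections on the strict localisation, on arbitrary neighbourhoods. -/
theorem iso_germ (H : EtCoh.Ab X)
    (e : (EtCoh.stalk (closedPt R ≫ σ)).obj ((EtCoh.push f).obj H) ≅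
      ((EtCoh.pull (pullback.fst f σ)).obj H).obj.obj (op (EtCoh.top (pullback f σ))))
    (he : ∀ i, T.ga f H i ≫ e.hom = T.gb f H i)
    (V : S.Etale) (l : Spec (CommRingCat.of R) ⟶ V.left) (hl : l ≫ V.hom = σ)
    (v : fib (closedPt R ≫ σ) V) (hv : v.left = closedPt R ≫ l) (t : H.obj.obj (op ((EtCoh.bc f).obj V))) :
    e.hom (germ (closedPt R ≫ σ) ((EtCoh.push f).obj H) v t) =
      sec (pullback.fst f σ) H ((EtCoh.bc f).obj V) (liftTo f V l hl) (liftTo_hom f V l hl) t := by
  obtain ⟨j, m, hm⟩ := T.exists_stage_map V l hl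
  have ev : (Scheme.pointSmallEtale (closedPt R ≫ σ)).fiber.map m (T.φ j) = v :=
    Over.OverMorphism.ext ((Category.assoc _ _ _).trans ((congrArg (closedPt R ≫ ·) hm).trans hv.symm))
  have h1 : germ (closedPt R ≫ σ) ((EtCoh.push f).obj H) v t =
      T.ga f H j (H.obj.map ((EtCoh.bc f).map m).op t) := by
    rw [← ev]
    exact (germ_map (closedPt R ≫ σ) ((EtCoh.push f).obj H) m (T.φ j) t).symm
  refine (congrArg e.hom h1).trans ((ConcreteCategory.congr_hom (he j) _).trans ?_)
  refine (NearLA6.gb_apply f T H j _).trans ?_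
  refine sec_map (pullback.fst f σ) H ((EtCoh.bc f).map m) (T.yl f j) (T.yl_hom f j) (liftTo f V l hl)
    (liftTo_hom f V l hl) (pullback.hom_ext ?_ ?_) t
  · refine Eq.trans ?_ (liftTo_fst f V l hl).symm
    refine (Category.assoc _ _ _).trans ?_
    refine (congrArg (T.yl f j ≫ ·) (EtCoh.isPullback_bc_map f m).w).trans ?_
    refine (Category.assoc _ _ _).symm.trans ?_
    refine (congrArg (· ≫ m.left) (T.yl_fst f j)).trans ?_
    exact (Category.assoc _ _ _).trans (congrArg (pullback.snd f σ ≫ ·) hm)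
  · refine Eq.trans ?_ (liftTo_hom f V l hl).symm
    refine (Category.assoc _ _ _).trans ?_
    exact (congrArg (T.yl f j ≫ ·) (MorphismProperty.Over.w ((EtCoh.bc f).map m))).trans (T.yl_hom f j)

end One

section Square

variable {X Y Xb Yb : Scheme.{u}} {g : X ⟶ Y} {p : Yb ⟶ Y} {pY : Xb ⟶ X} {hb : Xb ⟶ Yb} (w : hb ≫ p = pY ≫ g)
  {RX RY : Type u} [CommRing RX] [HenselianLocalRing RX] [IsSepClosed (IsLocalRing.ResidueField RX)]
  [CommRing RY] [HenselianLocalRing RY] [IsSepClosed (IsLocalRing.ResidueField RY)]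
  {σx : Spec (CommRingCat.of RX) ⟶ X} {σy : Spec (CommRingCat.of RY) ⟶ Y}
  {sψ : Spec (CommRingCat.of RX) ⟶ Spec (CommRingCat.of RY)} (e : sψ ≫ σy = σx ≫ g)

/-- The map of fibre products over the map of strict localisations. -/
noncomputable def locMap : pullback pY σx ⟶ pullback p σy :=
  pullback.lift (pullback.fst pY σx ≫ hb) (pullback.snd pY σx ≫ sψ)
    (by rw [Category.assoc, w, ← Category.assoc, pullback.condition, Category.assoc, Category.assoc, e])

theorem locMap_fst : locMap w e ≫ pullback.fst p σy = pullback.fst pY σx ≫ hb := pullback.lift_fst _ _ _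

theorem locMap_snd : locMap w e ≫ pullback.snd p σy = pullback.snd pY σx ≫ sψ := pullback.lift_snd _ _ _

theorem isPullback_locMap (sq : IsPullback hb pY p g) :
    IsPullback (locMap sq.w e) (pullback.snd pY σx) (pullback.snd p σy) sψ := by
  refine IsPullback.of_right ?_ (locMap_snd sq.w e) (IsPullback.of_hasPullback p σy)
  rw [locMap_fst, e]
  exact (IsPullback.of_hasPullback pY σx).paste_horiz sq

variable [QuasiCompact p] [QuasiSeparated p] [QuasiCompact pY] [QuasiSeparated pY]
  (TX : StrictSys σx) (TY : StrictSys σy) (J : EtCoh.Ab Yb)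

include TX TY

/-- The base change morphism at a point is injective, resp. bijective, as soon as the map of fibre products over the map of
strict localisations is so on sections. -/
theorem stalk_baseChange0_aux
    (hψ : Function.Bijective (sec sψ ((EtCoh.pull σy).obj ((EtCoh.push p).obj J)) (EtCoh.top _) sψ (Category.comp_id sψ)))
    (hm : Function.Injective (sec (locMap w e) ((EtCoh.pull (pullback.fst p σy)).obj J) (EtCoh.top _) (locMap w e)
      (Category.comp_id _))) :
    Function.Injective ((EtCoh.stalk (closedPt RX ≫ σx)).map (EtCoh.baseChange0 p g pY hb w J)) ∧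
    (Function.Surjective (sec (locMap w e) ((EtCoh.pull (pullback.fst p σy)).obj J) (EtCoh.top _) (locMap w e)
      (Category.comp_id _)) →
    Function.Surjective ((EtCoh.stalk (closedPt RX ≫ σx)).map (EtCoh.baseChange0 p g pY hb w J))) := by
  obtain ⟨eX, heX⟩ := TX.exists_iso₀ pY ((EtCoh.pull hb).obj J)
  obtain ⟨eY, heY⟩ := TY.exists_iso₀ p J
  let M := (EtCoh.push p).obj J
  let gY := Equiv.ofBijective _ (bijective_germ_top RY ((EtCoh.pull σy).obj M))
  let gX := Equiv.ofBijective _ (bijective_germ_top RX ((EtCoh.pull σx).obj ((EtCoh.pull g).obj M)))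
  let iY := Equiv.ofBijective _ (ConcreteCategory.bijective_of_isIso (stalkPull σy (closedPt RY) M))
  let Φ : (EtCoh.stalk (closedPt RX ≫ σx)).obj ((EtCoh.pull g).obj M) →
      ((EtCoh.pull (σx ≫ g)).obj M).obj.obj (op (EtCoh.top (Spec (CommRingCat.of RX)))) :=
    fun q => jmap σx g (σx ≫ g) rfl M (gX.symm (stalkPull σx (closedPt RX) ((EtCoh.pull g).obj M) q))
  let Ψ : ((EtCoh.pull σy).obj M).obj.obj (op (EtCoh.top (Spec (CommRingCat.of RY)))) →
      ((EtCoh.pull (σx ≫ g)).obj M).obj.obj (op (EtCoh.top (Spec (CommRingCat.of RX)))) :=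
    fun y => jmap sψ σy (σx ≫ g) e M (sec sψ ((EtCoh.pull σy).obj M) (EtCoh.top _) sψ (Category.comp_id sψ) y)
  let K : (EtCoh.stalk (closedPt RX ≫ σx)).obj ((EtCoh.pull g).obj M) →
      ((EtCoh.pull (pullback.fst pY σx ≫ hb)).obj J).obj.obj (op (EtCoh.top (pullback pY σx))) :=
    fun q => jmap (pullback.fst pY σx) hb _ rfl J
      (eX.hom ((EtCoh.stalk (closedPt RX ≫ σx)).map (EtCoh.baseChange0 p g pY hb w J) q))
  let Θ : ((EtCoh.pull σy).obj M).obj.obj (op (EtCoh.top (Spec (CommRingCat.of RY)))) →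
      ((EtCoh.pull (pullback.fst pY σx ≫ hb)).obj J).obj.obj (op (EtCoh.top (pullback pY σx))) :=
    fun y => jmap (locMap w e) (pullback.fst p σy) _ (locMap_fst w e) J
      (sec (locMap w e) ((EtCoh.pull (pullback.fst p σy)).obj J) (EtCoh.top _) (locMap w e) (Category.comp_id _)
        (eY.hom (iY.symm (gY y))))
  have hΦ : Function.Bijective Φ := (bijective_jmap σx g _ rfl M).comp (gX.symm.bijective.comp
    (ConcreteCategory.bijective_of_isIso (stalkPull σx (closedPt RX) ((EtCoh.pull g).obj M))))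
  have hΨ : Function.Bijective Ψ := (bijective_jmap sψ σy _ e M).comp hψ
  have hΘ₁ : Function.Bijective fun y => eY.hom (iY.symm (gY y)) :=
    (ConcreteCategory.bijective_of_isIso eY.hom).comp (iY.symm.bijective.comp gY.bijective)
  have hΘ : Function.Injective Θ := (bijective_jmap (locMap w e) _ _ (locMap_fst w e) J).1.comp (hm.comp hΘ₁.1)
  have key : ∀ y q, Φ q = Ψ y → K q = Θ y := by
    intro y q hq
    obtain ⟨j, s, rfl⟩ := exists_sec_eq TY M y
    let W := TY.W.obj (op j)
    let y' : Spec (CommRingCat.of RX) ⟶ ((EtCoh.bc g).obj W).left :=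
      pullback.lift (sψ ≫ TY.π.app (op j)) σx ((Category.assoc _ _ _).trans ((congrArg (sψ ≫ ·) (TY.hπ j)).trans e))
    have hy' : y' ≫ ((EtCoh.bc g).obj W).hom = σx := pullback.lift_snd _ _ _
    let v : fib (closedPt RX ≫ σx) ((EtCoh.bc g).obj W) :=
      Over.homMk (closedPt RX ≫ y') ((Category.assoc _ _ _).trans (congrArg (closedPt RX ≫ ·) hy'))
    have hfst : y' ≫ pullback.fst W.hom g = sψ ≫ TY.π.app (op j) := pullback.lift_fst _ _ _
    have h₀ : (sψ ≫ TY.π.app (op j)) ≫ W.hom = σx ≫ g :=
      (Category.assoc _ _ _).trans ((congrArg (sψ ≫ ·) (TY.hπ j)).trans e)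
    have hq' : q = germ (closedPt RX ≫ σx) ((EtCoh.pull g).obj M) v
        (((EtCoh.pullPushAdj g).unit.app M).hom.app (op W) s) := by
      refine hΦ.1 (hq.trans (Eq.symm ?_))
      refine (congrArg (fun z => jmap σx g (σx ≫ g) rfl M z)
        (gX.symm_apply_eq.2 (germ_top_sec _ y' hy' v rfl ((EtCoh.pull g).obj M) _))).trans ?_
      refine (sec_unit σx g _ rfl M W y' hy' ((congrArg (· ≫ W.hom) hfst).trans h₀) s).trans ?_
      refine (NearLA6.sec_congr _ M _ hfst _ h₀ s).trans ?_
      refine (sec_trans sψ σy _ e M W (TY.π.app (op j)) (TY.hπ j) h₀ s).symm.trans ?_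
      exact transpose_top sψ _ _
    subst hq'
    have hbc : (EtCoh.stalk (closedPt RX ≫ σx)).map (EtCoh.baseChange0 p g pY hb w J)
        (germ (closedPt RX ≫ σx) ((EtCoh.pull g).obj M) v (((EtCoh.pullPushAdj g).unit.app M).hom.app (op W) s)) =
        germ (closedPt RX ≫ σx) ((EtCoh.push pY).obj ((EtCoh.pull hb).obj J)) v
          (((EtCoh.pull hb).obj J).obj.map (sqHom p g pY hb w W).op
            (((EtCoh.pullPushAdj hb).unit.app J).hom.app (op ((EtCoh.bc p).obj W)) s)) := by
      refine (germ_nat (closedPt RX ≫ σx) (EtCoh.baseChange0 p g pY hb w J) v _).trans ?_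
      exact congrArg _ (baseChange0_germ p g pY hb w J s)
    let Y₁ := liftTo pY ((EtCoh.bc g).obj W) y' hy'
    let Y₂ := Y₁ ≫ (sqHom p g pY hb w W).left
    have hY₂ : Y₂ ≫ ((EtCoh.bc hb).obj ((EtCoh.bc p).obj W)).hom = pullback.fst pY σx :=
      (Category.assoc _ _ _).trans ((congrArg (Y₁ ≫ ·) (MorphismProperty.Over.w (sqHom p g pY hb w W))).trans
        (liftTo_hom pY _ y' hy'))
    have hY₃ : (Y₂ ≫ pullback.fst ((EtCoh.bc p).obj W).hom hb) = locMap w e ≫ TY.yl p j := by
      refine pullback.hom_ext ?_ ?_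
      · refine Eq.trans ?_ ((Category.assoc _ _ _).trans (congrArg (locMap w e ≫ ·) (TY.yl_fst p j))).symm
        refine Eq.trans ?_ (Category.assoc (locMap w e) (pullback.snd p σy) (TY.π.app (op j)))
        refine Eq.trans ?_ ((congrArg (· ≫ TY.π.app (op j)) (locMap_snd w e)).trans (Category.assoc _ _ _)).symm
        refine (Category.assoc _ _ _).trans ((Category.assoc _ _ _).trans ?_)
        refine (congrArg (Y₁ ≫ ·) (sqHom_fst p g pY hb w W)).trans ?_
        refine (Category.assoc _ _ _).symm.trans ?_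
        refine (congrArg (· ≫ bcFst g W) (liftTo_fst pY _ y' hy')).trans ?_
        exact (Category.assoc _ _ _).trans (congrArg (pullback.snd pY σx ≫ ·) hfst)
      · refine Eq.trans ?_ ((Category.assoc _ _ _).trans ((congrArg (locMap w e ≫ ·) (TY.yl_hom p j)).trans
          (locMap_fst w e))).symm
        refine ((Category.assoc _ _ _).trans (congrArg (Y₂ ≫ ·) pullback.condition)).trans ?_
        exact (Category.assoc _ _ _).symm.trans (congrArg (· ≫ hb) hY₂)
    have hY₄ : (locMap w e ≫ TY.yl p j) ≫ ((EtCoh.bc p).obj W).hom = pullback.fst pY σx ≫ hb :=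
      (Category.assoc _ _ _).trans ((congrArg (locMap w e ≫ ·) (TY.yl_hom p j)).trans (locMap_fst w e))
    refine (congrArg (fun z => jmap (pullback.fst pY σx) hb _ rfl J (eX.hom z)) hbc).trans ?_
    refine (congrArg (fun z => jmap (pullback.fst pY σx) hb _ rfl J z)
      ((iso_germ TX pY ((EtCoh.pull hb).obj J) eX heX _ y' hy' v rfl _).trans
        (sec_map (pullback.fst pY σx) ((EtCoh.pull hb).obj J) (sqHom p g pY hb w W) Y₁ (liftTo_hom pY _ y' hy')
          Y₂ hY₂ rfl _))).trans ?_
    refine (sec_unit (pullback.fst pY σx) hb _ rfl J ((EtCoh.bc p).obj W) Y₂ hY₂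
      ((congrArg (· ≫ ((EtCoh.bc p).obj W).hom) hY₃).trans hY₄) s).trans ?_
    refine (NearLA6.sec_congr _ J _ hY₃ _ hY₄ s).trans ?_
    have hy1 : iY.symm (gY (sec σy M W (TY.π.app (op j)) (TY.hπ j) s)) = TY.ga p J j s :=
      iY.symm_apply_eq.2 (germ_top_sec _ (TY.π.app (op j)) (TY.hπ j) (TY.φ j) rfl M s).symm
    refine Eq.trans ?_ (congrArg (fun z => jmap (locMap w e) (pullback.fst p σy) _ (locMap_fst w e) J
      (sec (locMap w e) ((EtCoh.pull (pullback.fst p σy)).obj J) (EtCoh.top _) (locMap w e) (Category.comp_id _) z))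
      (((congrArg eY.hom hy1).trans (ConcreteCategory.congr_hom (heY j) s)).trans (NearLA6.gb_apply p TY J j s))).symm
    refine (sec_trans (locMap w e) (pullback.fst p σy) _ (locMap_fst w e) J ((EtCoh.bc p).obj W) (TY.yl p j)
      (TY.yl_hom p j) hY₄ s).symm.trans ?_
    exact transpose_top (locMap w e) _ _
  have hK₁ : Function.Injective K := fun a b hab => by
    obtain ⟨ya, ha⟩ := hΨ.2 (Φ a)
    obtain ⟨yb, hb'⟩ := hΨ.2 (Φ b)
    refine hΦ.1 ?_
    rw [← ha, ← hb', hΘ ((key ya a ha.symm).symm.trans (hab.trans (key yb b hb'.symm)))]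
  have hi := (bijective_jmap (pullback.fst pY σx) hb _ rfl J).comp (ConcreteCategory.bijective_of_isIso eX.hom)
  refine ⟨fun a b hab => hK₁ ?_, fun hs => (Function.Surjective.of_comp_iff' hi _).1 fun c => ?_⟩
  · show jmap _ hb _ rfl J (eX.hom _) = jmap _ hb _ rfl J (eX.hom _)
    rw [hab]
  · have hΘs : Function.Surjective Θ :=
      (bijective_jmap (locMap w e) _ _ (locMap_fst w e) J).2.comp (hs.comp hΘ₁.2)
    obtain ⟨y, rfl⟩ := hΘs c
    obtain ⟨a, ha⟩ := hΦ.2 (Ψ y)
    exact ⟨a, key y a ha⟩

/-- The base change morphism is bijective at a point as soon as the map of strict localisations compares sections. -/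
theorem bijective_stalk_baseChange0
    (hψ : Function.Bijective (sec sψ ((EtCoh.pull σy).obj ((EtCoh.push p).obj J)) (EtCoh.top _) sψ (Category.comp_id sψ)))
    (hm : Function.Bijective (sec (locMap w e) ((EtCoh.pull (pullback.fst p σy)).obj J) (EtCoh.top _) (locMap w e)
      (Category.comp_id _))) :
    Function.Bijective ((EtCoh.stalk (closedPt RX ≫ σx)).map (EtCoh.baseChange0 p g pY hb w J)) :=
  have h := stalk_baseChange0_aux w e TX TY J hψ hm.1
  ⟨h.1, h.2 hm.2⟩

/-- Vanishing of higher direct images at a point after base change. -/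
theorem isZero_stalk_Rpush_bc (q : ℕ) (hz : IsZero ((EtCoh.Rpush p q).obj J))
    (hm : Function.Bijective (EtCore.Hpull (locMap w e) ((EtCoh.pull (pullback.fst p σy)).obj J) q)) :
    IsZero ((EtCoh.stalk (closedPt RX ≫ σx)).obj ((EtCoh.Rpush pY q).obj ((EtCoh.pull hb).obj J))) := by
  obtain ⟨eX⟩ := TX.nonempty_stalk_Rpush_iso pY q
  obtain ⟨eY⟩ := TY.nonempty_stalk_Rpush_iso p q
  have hY : IsZero ((EtCoh.HF (pullback p σy) q).obj ((EtCoh.pull (pullback.fst p σy)).obj J)) :=
    ((EtCoh.stalk (closedPt RY ≫ σy)).map_isZero hz).of_iso (eY.app J).symm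
  haveI : Subsingleton (EtCoh.H (pullback p σy) ((EtCoh.pull (pullback.fst p σy)).obj J) q) :=
    AddCommGrpCat.subsingleton_of_isZero hY
  exact (subsingleton_H_of_iso
    ((EtLim24.pullT (locMap w e) (pullback.fst p σy) (pullback.fst pY σx ≫ hb) (locMap_fst w e)).symm.app J ≪≫
      (EtLim24.pullT (pullback.fst pY σx) hb (pullback.fst pY σx ≫ hb) rfl).app J) q hm.2.subsingleton).of_iso
        (eX.app ((EtCoh.pull hb).obj J))

end Square

end Groth.Agent.LocAcycBC6
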